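import Groth.Agent.H18.Sec.Basic
import Groth.Agent.H18.ZClos.Support
import Groth.Agent.Lib.StalkLoc.Basic

/-!
# Sections of the `Z`-closure over an affine open
-/

set_option linter.style.haveILetI false

universe u

open CategoryTheory Limits AlgebraicGeometry Opposite TopologicalSpace
open Groth.Agent.Lib.QCoh.Localizing
open Groth.Agent.Lib.Modules.Stalk
open Groth.Agent.Lib.Modules.StalkModule (germ_smul)
open Groth.Agent.Lib.StalkLoc.Basic

namespace Groth.Agent.H18.Sec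

open H18.ZClos

noncomputable section

variable {X : Scheme.{u}} {Z : Set X} {F : X.Modules}

theorem ιsec_smul (T : _root_.ZClos.Cl Z) (V : X.Opens) (a : Γ(X, V)) (s : Γ(F, V ⊓ T.U)) :
    ιsec Z F T V (resR (inf_le_left : V ⊓ T.U ≤ V) a • s) = a • ιsec Z F T V s := by
  show (colimit.ι ((_root_.ZClos.diagram Z).obj F) T).app V
      (res F (img_le T.U V) (resR (inf_le_left : V ⊓ T.U ≤ V) a • s)) =
    a • (colimit.ι ((_root_.ZClos.diagram Z).obj F) T).app V (res F (img_le T.U V) s)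
  rw [res_smul, resR_resR]
  refine Eq.trans (congrArg ((colimit.ι ((_root_.ZClos.diagram Z).obj F) T).app V) ?_)
    (Scheme.Modules.Hom.app_smul (colimit.ι ((_root_.ZClos.diagram Z).obj F) T) a
      (show Γ((_root_.ZClos.resPush T.U).obj F, V) from res F (img_le T.U V) s))
  refine congrArg (fun r : Γ(X, T.U.ι ''ᵁ T.U.ι ⁻¹ᵁ V) => r • res F (img_le T.U V) s) ?_
  show _ = (T.U.ι.appIso _).inv ((T.U.ι).app V a)
  rw [Scheme.Opens.ι_appIso]
  simp [Scheme.Opens.ι_app]
  rfl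

theorem germ_rhoStalk (T : _root_.ZClos.Cl Z) {W : X.Opens} {x : X} (hx : x ∈ W ⊓ T.U) (s : Γ(F, W ⊓ T.U)) :
    _root_.ZClos.rhoStalk Z F x (F.presheaf.germ (W ⊓ T.U) x hx s) =
      ((_root_.ZClos.H0 Z).obj F).presheaf.germ W x hx.1 (ιsec Z F T W s) := by
  rw [germ_rho T hx s, ← germ_res (inf_le_left : W ⊓ T.U ≤ W) hx (ιsec Z F T W s), ιsec_res]

/-- The primes of an affine open outside `Z`. -/
abbrev outside (Z : Set X) {W : X.Opens} (hW : IsAffineOpen W) : Set (PrimeSpectrum Γ(X, W)) :=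
  {y | hW.fromSpec y ∉ Z}

theorem exists_stalkEquiv [F.IsQuasicoherent] {W : X.Opens} (hW : IsAffineOpen W) (y : PrimeSpectrum Γ(X, W))
    (x : X) (hx : x ∈ W) (hy : hW.primeIdealOf ⟨x, hx⟩ = y) :
    ∃ e : LocalizedModule y.asIdeal.primeCompl Γ(F, W) ≃+ F.presheaf.stalk x,
      (∀ m : Γ(F, W), e (LocalizedModule.mkLinearMap y.asIdeal.primeCompl Γ(F, W) m) = F.presheaf.germ W x hx m) ∧
      ∀ (a : Γ(X, W)) z, e (a • z) = X.presheaf.germ W x hx a • e z := by
  subst hy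
  letI := moduleSections F hx
  haveI := isLocalizedModule_germ (M := F) hW hx
  exact ⟨(IsLocalizedModule.iso _ (germₗ F hx)).toAddEquiv,
    fun m => IsLocalizedModule.iso_mk_one (hW.primeIdealOf ⟨x, hx⟩).asIdeal.primeCompl (germₗ F hx) m,
    fun a z => (IsLocalizedModule.iso _ (germₗ F hx)).map_smul a z⟩

theorem fromSpec_mem {W : X.Opens} (hW : IsAffineOpen W) (y : PrimeSpectrum Γ(X, W)) : hW.fromSpec y ∈ W := by
  have h : hW.fromSpec y ∈ Set.range hW.fromSpec := ⟨y, rfl⟩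
  rw [hW.range_fromSpec] at h
  exact h

theorem primeIdealOf_fromSpec {W : X.Opens} (hW : IsAffineOpen W) (y : PrimeSpectrum Γ(X, W)) :
    hW.primeIdealOf ⟨hW.fromSpec y, fromSpec_mem hW y⟩ = y :=
  hW.fromSpec.isOpenEmbedding.injective (hW.fromSpec_primeIdealOf ⟨hW.fromSpec y, fromSpec_mem hW y⟩)

theorem mem_basicOpen_iff {W : X.Opens} (hW : IsAffineOpen W) (y : PrimeSpectrum Γ(X, W)) (f : Γ(X, W)) :
    hW.fromSpec y ∈ X.basicOpen f ↔ f ∉ y.asIdeal := by
  show y ∈ hW.fromSpec ⁻¹ᵁ X.basicOpen f ↔ _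
  rw [hW.fromSpec_preimage_basicOpen]
  exact PrimeSpectrum.mem_basicOpen f y

/-- Sections of the closure over an affine open are the sections of the module outside `Z`, compatibly
with the canonical map. -/
theorem exists_sectionsEquiv_rho [IsLocallyNoetherian X] [F.IsQuasicoherent] (hZ : StableUnderSpecialization Z)
    {W : X.Opens} (hW : IsAffineOpen W) :
    ∃ E : Γ((_root_.ZClos.H0 Z).obj F, W) ≃ₗ[Γ(X, W)] Sec (outside Z hW) Γ(F, W),
      ∀ m : Γ(F, W), (E ((_root_.ZClos.rhoApp Z F).app W m)).1 = germs (outside Z hW) Γ(F, W) m := by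
  classical
  haveI : IsNoetherianRing Γ(X, W) := IsLocallyNoetherian.component_noetherian ⟨W, hW⟩
  have hx : ∀ y : outside Z hW, hW.fromSpec y.1 ∈ W := fun y => fromSpec_mem hW y.1
  choose e he1 he2 using fun y : outside Z hW =>
    exists_stalkEquiv (F := F) hW y.1 _ (hx y) (primeIdealOf_fromSpec hW y.1)
  have hbij : ∀ y : outside Z hW, Function.Bijective (_root_.ZClos.rhoStalk Z F (hW.fromSpec y.1)) :=
    fun y => isZClosedAt_of_notMem y.2
  let r : ∀ y : outside Z hW, F.presheaf.stalk (hW.fromSpec y.1) ≃+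
      ((_root_.ZClos.H0 Z).obj F).presheaf.stalk (hW.fromSpec y.1) :=
    fun y => AddEquiv.ofBijective (_root_.ZClos.rhoStalk Z F (hW.fromSpec y.1)).hom (hbij y)
  let φ₀ : Γ((_root_.ZClos.H0 Z).obj F, W) →+ Stalks (outside Z hW) Γ(F, W) :=
    AddMonoidHom.mk' (fun σ y => (e y).symm ((r y).symm
      (((_root_.ZClos.H0 Z).obj F).presheaf.germ W _ (hx y) σ)))
      (fun σ τ => funext fun y => by simp only [map_add, Pi.add_apply])
  have hP : ∀ (T : _root_.ZClos.Cl Z) (s : Γ(F, W ⊓ T.U)) (y : outside Z hW)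
      (h : hW.fromSpec y.1 ∈ W ⊓ T.U),
      φ₀ (ιsec Z F T W s) y = (e y).symm (F.presheaf.germ (W ⊓ T.U) _ h s) := by
    intro T s y h
    refine congrArg (e y).symm ((r y).symm_apply_eq.2 ?_)
    exact (germ_rhoStalk T h s).symm
  have hmemU : ∀ (T : _root_.ZClos.Cl Z) (y : outside Z hW), hW.fromSpec y.1 ∈ W ⊓ T.U :=
    fun T y => ⟨hx y, fun h => y.2 (T.2 h)⟩
  have hWc : IsCompact (W : Set X) := hW.isCompact
  have hsmul : ∀ (a : Γ(X, W)) σ, φ₀ (a • σ) = a • φ₀ σ := by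
    intro a σ
    obtain ⟨T, s, rfl⟩ := exists_rep hWc σ
    funext y
    rw [← ιsec_smul, Pi.smul_apply, hP T _ y (hmemU T y), hP T _ y (hmemU T y), AddEquiv.symm_apply_eq,
      he2, AddEquiv.apply_symm_apply, germ_smul]
    congr 1
    exact TopCat.Presheaf.germ_res_apply _ _ _ _ a
  have hmem : ∀ σ, φ₀ σ ∈ Sec (outside Z hW) Γ(F, W) := by
    intro σ y
    obtain ⟨T, s, rfl⟩ := exists_rep hWc σ
    obtain ⟨g, hgU, hxg⟩ := hW.exists_basicOpen_le (⟨_, hmemU T y⟩ : (W ⊓ T.U : X.Opens)) (hx y)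
    obtain ⟨n, t, ht⟩ := (localizes_of_isAffineOpen F hW g).ext' (res F hgU s)
    refine ⟨g ^ (n + 1), fun h => (mem_basicOpen_iff hW y.1 g).1 hxg (y.1.isPrime.mem_of_pow_mem _ h), g • t,
      fun y' hy' => ?_⟩
    have hxg' : hW.fromSpec y'.1 ∈ X.basicOpen g := (mem_basicOpen_iff hW y'.1 g).2 fun h =>
      hy' (Ideal.pow_mem_of_mem _ h _ n.succ_pos)
    rw [hP T s y' (hmemU T y')]
    refine (e y').injective ?_
    rw [he2, AddEquiv.apply_symm_apply, show germs (outside Z hW) Γ(F, W) (g • t) y' =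
      LocalizedModule.mkLinearMap y'.1.asIdeal.primeCompl Γ(F, W) (g • t) from rfl, he1, germ_smul,
      pow_succ', map_mul, mul_smul]
    refine congrArg (X.presheaf.germ W _ (hx y') g • ·) ?_
    rw [← germ_res (X.basicOpen_le g) hxg' t, ht, germ_smul, germ_res, map_pow, map_pow]
    congr 2
    exact (TopCat.Presheaf.germ_res_apply _ _ _ _ g).symm
  let φ : Γ((_root_.ZClos.H0 Z).obj F, W) →ₗ[Γ(X, W)] Sec (outside Z hW) Γ(F, W) :=
    { toFun := fun σ => ⟨φ₀ σ, hmem σ⟩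
      map_add' := fun σ τ => Subtype.ext (map_add φ₀ σ τ)
      map_smul' := fun a σ => Subtype.ext (hsmul a σ) }
  have hyW : ∀ x : X, x ∈ W → x ∉ Z → ∃ y : outside Z hW, hW.fromSpec y.1 = x := fun x h1 h2 =>
    ⟨⟨hW.primeIdealOf ⟨x, h1⟩, by
      show hW.fromSpec _ ∉ Z
      rwa [hW.fromSpec_primeIdealOf]⟩, hW.fromSpec_primeIdealOf ⟨x, h1⟩⟩
  refine ⟨LinearEquiv.ofBijective φ ⟨(injective_iff_map_eq_zero _).2 fun σ hσ => ?_, fun v => ?_⟩, fun m => ?_⟩
  · obtain ⟨T, s, rfl⟩ := exists_rep hWc σ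
    obtain ⟨T', hT'⟩ := exists_res_eq_zero hZ s fun x h hxZ => by
      obtain ⟨y, rfl⟩ := hyW x h.1 hxZ
      have h0 : φ₀ (ιsec Z F T W s) y = 0 := congrFun (congrArg Subtype.val hσ) y
      rw [hP T s y h, AddEquiv.symm_apply_eq, map_zero] at h0
      exact h0
    rw [← ιsec_mono (le_sup_left : T ≤ T ⊔ T') W s]
    have : res F (inf_U_anti Z (le_sup_left : T ≤ T ⊔ T') le_rfl) s = 0 := by
      have h2 : W ⊓ (T ⊔ T').U ≤ (W ⊓ T.U) ⊓ T'.U :=
        le_inf (inf_U_anti Z le_sup_left le_rfl) (inf_le_right.trans (_root_.ZClos.Cl.U_anti le_sup_right))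
      rw [← res_res inf_le_left h2, hT', map_zero]
    rw [this, map_zero]
  · choose f hf m hm using fun y : outside Z hW => v.2 y
    obtain ⟨S, hSsub, hS⟩ := (Submodule.fg_span_iff_fg_span_finset_subset _).1
      (IsNoetherian.noetherian (Submodule.span Γ(X, W) (Set.range f)))
    have hS' : ∀ a : S, ∃ y, f y = a.1 := fun a => hSsub a.2
    choose idx hidx using hS'
    let V : S → X.Opens := fun a => X.basicOpen (f (idx a))
    have hVW : ∀ a, V a ≤ W := fun a => X.basicOpen_le _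
    have huu : ∀ a : S, ∃ w : Γ(X, V a), resR (hVW a) (f (idx a)) * w = 1 := fun a =>
      isUnit_iff_exists_inv.1 (RingedSpace.isUnit_res_basicOpen X.toLocallyRingedSpace.toRingedSpace (f (idx a)))
    choose u hu using huu
    let s : ∀ a : S, Γ(F, V a) := fun a => u a • res F (hVW a) (m (idx a))
    have hgs : ∀ (a : S) (y : outside Z hW) (h : hW.fromSpec y.1 ∈ V a),
        (e y).symm (F.presheaf.germ (V a) _ h (s a)) = v.1 y := by
      intro a y h
      have hfy := (mem_basicOpen_iff hW y.1 _).1 h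
      refine smul_left_cancel hfy ((e y).injective ?_)
      rw [he2, AddEquiv.apply_symm_apply, hm (idx a) y hfy,
        show germs (outside Z hW) Γ(F, W) (m (idx a)) y =
          LocalizedModule.mkLinearMap y.1.asIdeal.primeCompl Γ(F, W) (m (idx a)) from rfl, he1,
        germ_smul, smul_smul, germ_res]
      rw [← TopCat.Presheaf.germ_res_apply X.presheaf (homOfLE (hVW a)) _ h (f (idx a)), ← map_mul]
      erw [hu a, map_one, one_smul]
    have hov : ∀ p : S × S, ∃ T : _root_.ZClos.Cl Z,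
        res F (inf_le_left : (V p.1 ⊓ V p.2) ⊓ T.U ≤ V p.1 ⊓ V p.2)
          (res F inf_le_left (s p.1) - res F inf_le_right (s p.2)) = 0 := fun p =>
      exists_res_eq_zero hZ _ fun x h hxZ => by
        obtain ⟨y, rfl⟩ := hyW x (hVW _ h.1) hxZ
        rw [map_sub, germ_res, germ_res, sub_eq_zero]
        exact (e y).symm.injective ((hgs p.1 y h.1).trans (hgs p.2 y h.2).symm)
    choose Tp hTp using hov
    have hC : IsClosed ((⋃ a, (V a : Set X))ᶜ) := (isOpen_iUnion fun a => (V a).2).isClosed_compl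
    have hCZ : (⋃ a, (V a : Set X))ᶜ ∩ W ⊆ Z := by
      rintro x ⟨hxC, hxW⟩
      by_contra hxZ
      obtain ⟨y, rfl⟩ := hyW x hxW hxZ
      obtain ⟨a, haS, hay⟩ : ∃ a ∈ S, a ∉ y.1.asIdeal := by
        by_contra hcon
        push Not at hcon
        have : f y ∈ Submodule.span Γ(X, W) (S : Set Γ(X, W)) := hS ▸ Submodule.subset_span ⟨y, rfl⟩
        exact hf y ((Submodule.span_le.2 fun a ha => hcon a ha) this)
      exact hxC (Set.mem_iUnion.2 ⟨⟨a, haS⟩, (mem_basicOpen_iff hW y.1 _).2 (by rw [hidx]; exact hay)⟩)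
    let T : _root_.ZClos.Cl Z := clOf hZ hC W hCZ ⊔ Finset.univ.sup Tp
    have hTle : ∀ p, Tp p ≤ T := fun p => (Finset.le_sup (Finset.mem_univ p)).trans le_sup_right
    let G : TopCat.Sheaf AddCommGrpCat.{u} X := ⟨F.presheaf, F.isSheaf⟩
    let U : S → X.Opens := fun a => V a ⊓ T.U
    obtain ⟨t, ht, -⟩ := TopCat.Sheaf.existsUnique_gluing' G U (W ⊓ T.U)
      (fun a => homOfLE (inf_le_inf (hVW a) le_rfl))
      (fun x hx' => by
        have h1 : x ∈ W ⊓ (clOf hZ hC W hCZ).U :=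
          ⟨hx'.1, _root_.ZClos.Cl.U_anti (le_sup_left : clOf hZ hC W hCZ ≤ T) hx'.2⟩
        obtain ⟨a, ha⟩ := Set.mem_iUnion.1 (not_not.1 (clOf_inf_U hZ hC W hCZ h1))
        exact Opens.mem_iSup.2 ⟨a, ha, hx'.2⟩)
      (fun a => res F inf_le_left (s a))
      (fun a b => by
        change res F (inf_le_left : U a ⊓ U b ≤ U a) (res F inf_le_left (s a)) =
          res F (inf_le_right : U a ⊓ U b ≤ U b) (res F inf_le_left (s b))
        have hz : U a ⊓ U b ≤ (V a ⊓ V b) ⊓ (Tp (a, b)).U :=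
          le_inf (inf_le_inf inf_le_left inf_le_left)
            ((inf_le_left.trans inf_le_right).trans (_root_.ZClos.Cl.U_anti (hTle (a, b))))
        have := congrArg (res F hz) (hTp (a, b))
        simp only [map_sub, res_res, map_zero, sub_eq_zero] at this
        rw [res_res, res_res]
        exact this)
    refine ⟨ιsec Z F T W t, Subtype.ext (funext fun y => ?_)⟩
    show φ₀ (ιsec Z F T W t) y = v.1 y
    rw [hP T t y (hmemU T y)]
    obtain ⟨a, ha⟩ : ∃ a, hW.fromSpec y.1 ∈ V a := by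
      have h1 : hW.fromSpec y.1 ∈ W ⊓ (clOf hZ hC W hCZ).U := hmemU _ y
      exact Set.mem_iUnion.1 (not_not.1 (clOf_inf_U hZ hC W hCZ h1))
    rw [← hgs a y ha]
    congr 1
    have hUW : U a ≤ W ⊓ T.U := inf_le_inf (hVW a) le_rfl
    have hxU : hW.fromSpec y.1 ∈ U a := ⟨ha, (hmemU T y).2⟩
    rw [← germ_res hUW hxU t, show res F hUW t = res F inf_le_left (s a) from ht a, germ_res]
  · funext y
    show φ₀ ((_root_.ZClos.rhoApp Z F).app W m) y = _
    rw [rho_ιsec ⊥ W m, hP ⊥ _ y (hmemU ⊥ y), AddEquiv.symm_apply_eq,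
      show germs (outside Z hW) Γ(F, W) m y =
        LocalizedModule.mkLinearMap y.1.asIdeal.primeCompl Γ(F, W) m from rfl, he1, germ_res]

/-- Sections of the closure over an affine open are the sections of the module outside `Z`. -/
theorem exists_sectionsEquiv [IsLocallyNoetherian X] [F.IsQuasicoherent] (hZ : StableUnderSpecialization Z)
    {W : X.Opens} (hW : IsAffineOpen W) :
    Nonempty (Γ((_root_.ZClos.H0 Z).obj F, W) ≃ₗ[Γ(X, W)] Sec (outside Z hW) Γ(F, W)) :=
  ⟨(exists_sectionsEquiv_rho hZ hW).choose⟩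

end

end Groth.Agent.H18.Sec
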