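import Mathlib.RingTheory.Spectrum.Prime.Basic
import Mathlib.RingTheory.Finiteness.Basic
import Mathlib.Algebra.Module.LocalizedModule.Exact
import Mathlib.RingTheory.Ideal.AssociatedPrime.Finiteness
import Mathlib.RingTheory.Noetherian.Basic
import Groth.Agent.Lib.Dim.FieldExt

/-!
# Sections of a module on a set of primes

`Sec G M` is the module of families of elements of `M_y`, `y ∈ G`, which locally are fractions.
It is left exact in `M` and finite as soon as it is finite for all `A ⧸ p`, `p` associated to `M`.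
-/

set_option linter.style.haveILetI false

universe u

namespace Groth.Agent.H18.Sec

variable {A : Type u} [CommRing A] (G : Set (PrimeSpectrum A))

/-- Families of elements of the localizations at the primes in `G`. -/
abbrev Stalks (M : Type u) [AddCommGroup M] [Module A M] : Type u :=
  (y : G) → LocalizedModule y.1.asIdeal.primeCompl M

/-- The germs of an element. -/
noncomputable def germs (M : Type u) [AddCommGroup M] [Module A M] : M →ₗ[A] Stalks G M :=
  LinearMap.pi fun _ => LocalizedModule.mkLinearMap _ M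

/-- Families which locally are fractions. -/
noncomputable def Sec (M : Type u) [AddCommGroup M] [Module A M] : Submodule A (Stalks G M) where
  carrier := {v | ∀ y : G, ∃ f : A, f ∉ y.1.asIdeal ∧ ∃ m : M,
    ∀ y' : G, f ∉ y'.1.asIdeal → f • v y' = germs G M m y'}
  zero_mem' y := ⟨1, fun h => y.1.isPrime.ne_top ((Ideal.eq_top_iff_one _).2 h), 0, fun y' _ => by simp⟩
  add_mem' {v w} hv hw y := by
    obtain ⟨f, hf, m, hm⟩ := hv y
    obtain ⟨g, hg, n, hn⟩ := hw y
    refine ⟨f * g, fun h => (y.1.isPrime.mem_or_mem h).elim hf hg, g • m + f • n, fun y' h => ?_⟩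
    rw [Pi.add_apply, smul_add, map_add, Pi.add_apply, map_smul, map_smul, Pi.smul_apply, Pi.smul_apply,
      ← hm y' fun hh => h (Ideal.mul_mem_right _ _ hh), ← hn y' fun hh => h (Ideal.mul_mem_left _ _ hh),
      smul_smul, smul_smul, mul_comm g f]
  smul_mem' c v hv y := by
    obtain ⟨f, hf, m, hm⟩ := hv y
    refine ⟨f, hf, c • m, fun y' h => ?_⟩
    rw [map_smul, Pi.smul_apply, Pi.smul_apply, ← hm y' h, smul_comm]

variable {G} {M N P : Type u} [AddCommGroup M] [Module A M] [AddCommGroup N] [Module A N]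
  [AddCommGroup P] [Module A P]

theorem germs_mem (m : M) : germs G M m ∈ Sec G M := fun y =>
  ⟨1, fun h => y.1.isPrime.ne_top ((Ideal.eq_top_iff_one _).2 h), m, fun y' _ => one_smul _ _⟩

theorem germs_apply_eq_zero_iff (y : G) (m : M) :
    germs G M m y = 0 ↔ ∃ u : A, u ∉ y.1.asIdeal ∧ u • m = 0 := by
  refine (IsLocalizedModule.eq_zero_iff y.1.asIdeal.primeCompl (LocalizedModule.mkLinearMap _ M)).trans ?_
  exact ⟨fun ⟨u, hu⟩ => ⟨u.1, u.2, hu⟩, fun ⟨u, hu, h⟩ => ⟨⟨u, hu⟩, h⟩⟩

theorem smul_left_cancel {y : G} {f : A} (hf : f ∉ y.1.asIdeal)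
    {a b : LocalizedModule y.1.asIdeal.primeCompl M} (h : f • a = f • b) : a = b :=
  IsLocalizedModule.smul_injective (LocalizedModule.mkLinearMap _ M)
    (⟨f, hf⟩ : y.1.asIdeal.primeCompl) h

/-- The map on stalks. -/
noncomputable def mapStalks (φ : M →ₗ[A] N) : Stalks G M →ₗ[A] Stalks G N :=
  LinearMap.pi fun y => (IsLocalizedModule.map y.1.asIdeal.primeCompl
    (LocalizedModule.mkLinearMap y.1.asIdeal.primeCompl M)
    (LocalizedModule.mkLinearMap y.1.asIdeal.primeCompl N) φ) ∘ₗ LinearMap.proj y

theorem mapStalks_germs (φ : M →ₗ[A] N) (m : M) : mapStalks φ (germs G M m) = germs G N (φ m) :=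
  funext fun y => IsLocalizedModule.map_apply y.1.asIdeal.primeCompl _ _ φ m

theorem mapStalks_mem (φ : M →ₗ[A] N) {v : Stalks G M} (hv : v ∈ Sec G M) :
    mapStalks φ v ∈ Sec G N := fun y => by
  obtain ⟨f, hf, m, hm⟩ := hv y
  refine ⟨f, hf, φ m, fun y' h => ?_⟩
  rw [← mapStalks_germs, ← Pi.smul_apply, ← map_smul]
  show (mapStalks φ (f • v)) y' = _
  simp only [mapStalks, LinearMap.pi_apply, LinearMap.comp_apply, LinearMap.proj_apply, Pi.smul_apply, hm y' h]

/-- The map on sections. -/
noncomputable def mapSec (φ : M →ₗ[A] N) : Sec G M →ₗ[A] Sec G N :=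
  (mapStalks φ).restrict fun _ => mapStalks_mem φ

theorem mapStalks_injective {φ : M →ₗ[A] N} (h : Function.Injective φ) :
    Function.Injective (mapStalks (G := G) φ) := fun _ _ e =>
  funext fun y => IsLocalizedModule.map_injective y.1.asIdeal.primeCompl _ _ φ h (congrFun e y)

theorem mapSec_injective {φ : M →ₗ[A] N} (h : Function.Injective φ) :
    Function.Injective (mapSec (G := G) φ) := fun _ _ e =>
  Subtype.ext (mapStalks_injective h (congrArg Subtype.val e))

theorem exact_mapSec {f : N →ₗ[A] M} {g : M →ₗ[A] P} (hf : Function.Injective f)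
    (hex : Function.Exact f g) : Function.Exact (mapSec (G := G) f) (mapSec (G := G) g) := by
  intro v
  have hy : ∀ y : G, Function.Exact
      (IsLocalizedModule.map y.1.asIdeal.primeCompl (LocalizedModule.mkLinearMap y.1.asIdeal.primeCompl N)
        (LocalizedModule.mkLinearMap y.1.asIdeal.primeCompl M) f)
      (IsLocalizedModule.map y.1.asIdeal.primeCompl (LocalizedModule.mkLinearMap y.1.asIdeal.primeCompl M)
        (LocalizedModule.mkLinearMap y.1.asIdeal.primeCompl P) g) := fun y =>
    IsLocalizedModule.map_exact y.1.asIdeal.primeCompl (LocalizedModule.mkLinearMap _ N)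
      (LocalizedModule.mkLinearMap _ M) (LocalizedModule.mkLinearMap _ P) f g hex
  constructor
  · intro h
    choose w hw using fun y => (hy y (v.1 y)).1 (congrFun (congrArg Subtype.val h) y)
    have hwv : mapStalks f w = v.1 := funext hw
    refine ⟨⟨w, fun y => ?_⟩, Subtype.ext hwv⟩
    obtain ⟨f', hf', m, hm⟩ := v.2 y
    have hm0 : germs G P (g m) y = 0 := by
      rw [← mapStalks_germs]
      show (IsLocalizedModule.map y.1.asIdeal.primeCompl _ _ g) (germs G M m y) = 0
      rw [← hm y hf', map_smul]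
      exact (congrArg (f' • ·) (congrFun (congrArg Subtype.val h) y)).trans (smul_zero _)
    obtain ⟨u, hu, hum⟩ := (germs_apply_eq_zero_iff y _).1 hm0
    obtain ⟨n, hn⟩ := (hex (u • m)).1 (by rw [map_smul, hum])
    refine ⟨u * f', fun hh => (y.1.isPrime.mem_or_mem hh).elim hu hf', n, fun y' h' => ?_⟩
    refine IsLocalizedModule.map_injective y'.1.asIdeal.primeCompl
      (LocalizedModule.mkLinearMap y'.1.asIdeal.primeCompl N)
      (LocalizedModule.mkLinearMap y'.1.asIdeal.primeCompl M) f hf ?_
    have e1 : (IsLocalizedModule.map y'.1.asIdeal.primeCompl (LocalizedModule.mkLinearMap _ N)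
        (LocalizedModule.mkLinearMap y'.1.asIdeal.primeCompl M) f) (germs G N n y') = germs G M (f n) y' :=
      congrFun (mapStalks_germs f n) y'
    rw [e1, hn, map_smul, hw y', map_smul, Pi.smul_apply, ← hm y' fun hh => h' (Ideal.mul_mem_left _ _ hh),
      mul_smul]
  · rintro ⟨w, rfl⟩
    exact Subtype.ext (funext fun y => (hy y).apply_apply_eq_zero (w.1 y))

theorem finite_of_injective [IsNoetherianRing A] {φ : M →ₗ[A] N} (h : Function.Injective φ)
    [Module.Finite A (Sec G N)] : Module.Finite A (Sec G M) :=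
  haveI : IsNoetherian A (Sec G N) := isNoetherian_of_isNoetherianRing_of_finite A _
  Module.Finite.of_injective (mapSec φ) (mapSec_injective h)

theorem finite_of_exact [IsNoetherianRing A] {f : N →ₗ[A] M} {g : M →ₗ[A] P}
    (hf : Function.Injective f) (hex : Function.Exact f g) [Module.Finite A (Sec G N)]
    [Module.Finite A (Sec G P)] : Module.Finite A (Sec G M) := by
  haveI : IsNoetherian A (Sec G N) := isNoetherian_of_isNoetherianRing_of_finite A _
  haveI : IsNoetherian A (Sec G P) := isNoetherian_of_isNoetherianRing_of_finite A _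
  haveI : IsNoetherian A (Sec G M) := isNoetherian_of_range_eq_ker (mapSec f) (mapSec g)
    (LinearMap.exact_iff.1 (exact_mapSec hf hex)).symm
  exact inferInstance

theorem finite_pi [IsNoetherianRing A] {ι : Type} [Fintype ι] [Module.Finite A (Sec G N)] :
    Module.Finite A (Sec G (ι → N)) := by
  haveI : IsNoetherian A (Sec G N) := isNoetherian_of_isNoetherianRing_of_finite A _
  refine Module.Finite.of_injective (LinearMap.pi fun i => mapSec (LinearMap.proj i)) fun v w e =>
    Subtype.ext (funext fun y => ?_)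
  have hi : ∀ i, (IsLocalizedModule.map y.1.asIdeal.primeCompl
      (LocalizedModule.mkLinearMap y.1.asIdeal.primeCompl (ι → N))
      (LocalizedModule.mkLinearMap y.1.asIdeal.primeCompl N) (LinearMap.proj i)) (v.1 y - w.1 y) = 0 := fun i => by
    rw [map_sub, sub_eq_zero]
    exact congrFun (congrArg Subtype.val (congrFun e i)) y
  rw [← sub_eq_zero]
  obtain ⟨⟨x, s⟩, hx⟩ := IsLocalizedModule.surj y.1.asIdeal.primeCompl
    (LocalizedModule.mkLinearMap y.1.asIdeal.primeCompl (ι → N)) (v.1 y - w.1 y)
  refine smul_left_cancel (f := (s : A)) s.2 ?_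
  rw [smul_zero]
  refine hx.trans ((germs_apply_eq_zero_iff y x).2 ?_)
  have hxi : ∀ i, ∃ u : A, u ∉ y.1.asIdeal ∧ u • x i = 0 := fun i => by
    refine (germs_apply_eq_zero_iff y (x i)).1 ?_
    rw [show germs G N (x i) y = germs G N (LinearMap.proj (R := A) (φ := fun _ : ι => N) i x) y from rfl,
      ← mapStalks_germs]
    show (IsLocalizedModule.map y.1.asIdeal.primeCompl _ _ (LinearMap.proj i)) (germs G (ι → N) x y) = 0
    rw [show germs G (ι → N) x y = (s : A) • (v.1 y - w.1 y) from hx.symm, map_smul, hi i, smul_zero]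
  choose u hu hux using hxi
  classical
  refine ⟨∏ i, u i, fun h => ?_, funext fun i => ?_⟩
  · obtain ⟨i, -, hi'⟩ := (Ideal.IsPrime.prod_mem_iff (hp := y.1.isPrime)).1 h
    exact hu i hi'
  · rw [Pi.smul_apply, Pi.zero_apply, ← Finset.prod_erase_mul _ _ (Finset.mem_univ i), mul_smul,
      hux, smul_zero]

theorem ass_pi_subset {ι : Type u} [Fintype ι] [IsNoetherianRing A] :
    associatedPrimes A (ι → N) ⊆ associatedPrimes A N := by
  classical
  intro Q hQ
  obtain ⟨hQp, x, hx⟩ := isAssociatedPrime_iff.1 hQ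
  have hQe : Q = Finset.univ.inf fun i => (⊥ : Submodule A N).colon {x i} := by
    ext r
    rw [hx, Submodule.mem_colon_singleton, Submodule.mem_bot, Submodule.mem_finsetInf, funext_iff]
    simp [Submodule.mem_colon_singleton]
  obtain ⟨i, -, hle⟩ := (Ideal.IsPrime.inf_le' hQp).1 hQe.ge
  exact isAssociatedPrime_iff.2 ⟨hQp, x i, le_antisymm (hQe.le.trans (Finset.inf_le (Finset.mem_univ i))) hle⟩

theorem finite_of_subsingleton [Subsingleton M] : Module.Finite A (Sec G M) := by
  haveI : Subsingleton (Sec G M) := ⟨fun v w => Subtype.ext (funext fun _ => Subsingleton.elim _ _)⟩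
  infer_instance

/-- Finiteness of sections reduces to the quotients by associated primes. -/
theorem finite_of_forall_ass [IsNoetherianRing A] [Module.Finite A M]
    (h : ∀ p ∈ associatedPrimes A M, Module.Finite A (Sec G (A ⧸ p))) : Module.Finite A (Sec G M) := by
  classical
  suffices H : ∀ K : Submodule A M, associatedPrimes A (M ⧸ K) ⊆ associatedPrimes A M →
      Module.Finite A (Sec G (M ⧸ K)) by
    haveI := H ⊥ (associatedPrimes.subset_of_injective (f := (Submodule.quotEquivOfEqBot ⊥ rfl).toLinearMap)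
      (Submodule.quotEquivOfEqBot ⊥ rfl).injective)
    exact finite_of_injective (φ := (Submodule.quotEquivOfEqBot ⊥ rfl).symm.toLinearMap)
      (Submodule.quotEquivOfEqBot (⊥ : Submodule A M) rfl).symm.injective
  intro K
  induction K using WellFoundedGT.induction with
  | _ K ih =>
    intro hK
    rcases subsingleton_or_nontrivial (M ⧸ K) with hs | hn
    · exact finite_of_subsingleton
    obtain ⟨P, hPass, hPmax⟩ := (associatedPrimes.finite A (M ⧸ K)).exists_maximal
      (associatedPrimes.nonempty A (M ⧸ K))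
    obtain ⟨hPp, z₀, hz₀⟩ := isAssociatedPrime_iff.1 hPass
    haveI := hPp
    let T : Submodule A (M ⧸ K) := Submodule.torsionBySet A (M ⧸ K) (P : Set A)
    obtain ⟨s, hs⟩ := (IsNoetherian.noetherian P : P.FG)
    have hz₀T : z₀ ∈ T := (Submodule.mem_torsionBySet_iff _ _).2 fun a => by
      simpa [hz₀, Submodule.mem_colon_singleton] using hz₀.le a.2
    let g : M →ₗ[A] (s → (M ⧸ K)) := LinearMap.pi fun a => a.1 • K.mkQ
    let K' : Submodule A M := LinearMap.ker g
    have hK'T : ∀ m, m ∈ K' ↔ K.mkQ m ∈ T := fun m => by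
      rw [LinearMap.mem_ker, Submodule.mem_torsionBySet_iff, funext_iff]
      refine ⟨fun hm a => ?_, fun hm a => hm ⟨a.1, hs ▸ Submodule.subset_span a.2⟩⟩
      obtain ⟨a, haP⟩ := a
      have ha : a ∈ Submodule.span A (s : Set A) := hs.symm ▸ haP
      show a • K.mkQ m = 0
      clear haP
      induction ha using Submodule.span_induction with
      | mem v hv => exact hm ⟨v, hv⟩
      | zero => exact zero_smul _ _
      | add x y _ _ hx hy => rw [add_smul, hx, hy, add_zero]
      | smul c x _ hx => rw [smul_eq_mul, mul_smul, hx, smul_zero]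
    have hKK' : K < K' := by
      refine lt_of_le_of_ne (fun m hm => (hK'T m).2 ?_) fun e => ?_
      · rw [Submodule.mkQ_apply, (Submodule.Quotient.mk_eq_zero K).2 hm]
        exact T.zero_mem
      · obtain ⟨m₀, rfl⟩ := Submodule.Quotient.mk_surjective K z₀
        have hm₀ : m₀ ∈ K := e ▸ (hK'T m₀).2 hz₀T
        refine hPp.ne_top ((Ideal.eq_top_iff_one P).2 (hz₀.ge ?_))
        rw [Submodule.mem_colon_singleton, (Submodule.Quotient.mk_eq_zero K).2 hm₀, smul_zero]
        exact Submodule.zero_mem _
    haveI := ih K' hKK' ((associatedPrimes.subset_of_injective (f := K'.liftQ g le_rfl)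
      (LinearMap.ker_eq_bot.1 (Submodule.ker_liftQ_eq_bot _ _ _ le_rfl))).trans ((ass_pi_subset (N := M ⧸ K)).trans hK))
    haveI : Module.Finite A (Sec G (A ⧸ P)) := h P (hK hPass)
    haveI : Module.Finite (A ⧸ P) T := Module.Finite.of_restrictScalars_finite A (A ⧸ P) T
    haveI : Module.IsTorsionFree (A ⧸ P) T := ⟨fun r hr n n' e => by
      obtain ⟨r, rfl⟩ := Ideal.Quotient.mk_surjective r
      rw [← sub_eq_zero]
      by_contra hne
      have hne' : ((n - n' : T) : M ⧸ K) ≠ 0 := fun e' => hne (Subtype.ext e')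
      obtain ⟨Q, hQ, hle⟩ := exists_le_isAssociatedPrime_of_isNoetherianRing (R := A)
        ((n - n' : T) : M ⧸ K) hne'
      have hPQ : P ≤ Q := fun a ha => hle (by
        rw [Submodule.mem_colon_singleton, Submodule.mem_bot]
        exact (Submodule.mem_torsionBySet_iff _ _).1 (n - n').2 ⟨a, ha⟩)
      refine hr.ne_zero (Ideal.Quotient.eq_zero_iff_mem.2 (hPmax hQ hPQ (hle ?_)))
      rw [Submodule.mem_colon_singleton, Submodule.mem_bot, Submodule.coe_sub, smul_sub, sub_eq_zero]
      exact congrArg Subtype.val e⟩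
    obtain ⟨k, j, hj⟩ := Lib.Dim.FieldExt.exists_injective_pi (A ⧸ P) T
    haveI : Module.Finite A (Sec G (Fin k → A ⧸ P)) := finite_pi
    haveI : Module.Finite A (Sec G T) := finite_of_injective (φ := j.restrictScalars A) hj
    refine finite_of_exact (f := T.subtype) (g := (Submodule.factor hKK'.le)) T.injective_subtype ?_
    intro z
    obtain ⟨m, rfl⟩ := Submodule.Quotient.mk_surjective K z
    refine ⟨fun hm => ⟨⟨_, (hK'T m).1 ((Submodule.Quotient.mk_eq_zero K').1 hm)⟩, rfl⟩, ?_⟩
    rintro ⟨n, hn⟩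
    refine (Submodule.Quotient.mk_eq_zero K').2 ((hK'T m).2 ?_)
    rw [Submodule.mkQ_apply, ← hn]
    exact n.2

end Groth.Agent.H18.Sec
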