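import Groth.Agent.H18.Sec.Div
import Mathlib.Algebra.Module.FinitePresentation
import Mathlib.RingTheory.TensorProduct.Maps
import Mathlib.RingTheory.Flat.Basic

/-!
# Modules equal to their sections, and flat base change
-/

set_option linter.style.haveILetI false

universe u

open TensorProduct

namespace Groth.Agent.H18.Sec

section Crit

variable {A : Type u} [CommRing A] {M : Type u} [AddCommGroup M] [Module A M]

/-- `M → Hom(I, M)`. -/
noncomputable def homMap (I : Ideal A) (M : Type u) [AddCommGroup M] [Module A M] : M →ₗ[A] (I →ₗ[A] M) :=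
  LinearMap.lcomp A M I.subtype ∘ₗ (LinearMap.ringLmapEquivSelf A A M).symm.toLinearMap

@[simp] theorem homMap_apply (I : Ideal A) (m : M) (c : I) : homMap I M m c = (c : A) • m := by
  simp [homMap]

theorem homMap_bijective_mono {I I' : Ideal A} (h : I ≤ I') (hb : Function.Bijective (homMap I M)) :
    Function.Bijective (homMap I' M) := by
  refine ⟨(injective_iff_map_eq_zero _).2 fun m hm => hb.1 ?_, fun φ => ?_⟩
  · rw [map_zero]
    refine LinearMap.ext fun c => ?_
    have := LinearMap.congr_fun hm ⟨c.1, h c.2⟩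
    simpa using this
  · obtain ⟨m, hm⟩ := hb.2 (φ ∘ₗ Submodule.inclusion h)
    refine ⟨m, LinearMap.ext fun c => ?_⟩
    rw [homMap_apply, ← sub_eq_zero]
    refine hb.1 ?_
    rw [map_zero]
    refine LinearMap.ext fun d => ?_
    rw [homMap_apply, LinearMap.zero_apply, smul_sub, sub_eq_zero, smul_comm,
      ← homMap_apply I m d, hm, LinearMap.comp_apply, ← φ.map_smul, ← φ.map_smul]
    refine congrArg φ (Subtype.ext ?_)
    exact mul_comm _ _

variable (G : Set (PrimeSpectrum A))

/-- `M` is its own module of sections on `G`. -/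
def IsClosedOn (M : Type u) [AddCommGroup M] [Module A M] : Prop :=
  Function.Bijective fun m : M => (⟨germs G M m, germs_mem m⟩ : Sec G M)

variable {G}

theorem homMap_bijective_of_closedOn (hG : ∀ y z : PrimeSpectrum A, y.asIdeal ≤ z.asIdeal → z ∈ G → y ∈ G)
    (hc : IsClosedOn G M) {p : Ideal A} [hp : p.IsPrime] (hpG : (⟨p, hp⟩ : PrimeSpectrum A) ∉ G) :
    Function.Bijective (homMap p M) := by
  have hne : ∀ y : G, ¬ p ≤ y.1.asIdeal := fun y h => hpG (hG ⟨p, hp⟩ y.1 h y.2)
  refine ⟨(injective_iff_map_eq_zero _).2 fun m hm => hc.1 ?_, fun φ => ?_⟩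
  · refine Subtype.ext (funext fun y => ?_)
    obtain ⟨c, hc', hcy⟩ := SetLike.not_le_iff_exists.1 (hne y)
    show germs G M m y = germs G M 0 y
    rw [map_zero, Pi.zero_apply, germs_apply_eq_zero_iff]
    exact ⟨c, hcy, by simpa using LinearMap.congr_fun hm ⟨c, hc'⟩⟩
  · have hsol : ∀ y : G, ∃ z : LocalizedModule y.1.asIdeal.primeCompl M,
        ∀ c : p, (c : A) • z = germs G M (φ c) y := fun y => by
      obtain ⟨d, hd, hdy⟩ := SetLike.not_le_iff_exists.1 (hne y)
      obtain ⟨z, hz⟩ := ((Module.End.isUnit_iff _).1 (IsLocalizedModule.map_units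
        (LocalizedModule.mkLinearMap y.1.asIdeal.primeCompl M) (⟨d, hdy⟩ : y.1.asIdeal.primeCompl))).2
          (germs G M (φ ⟨d, hd⟩) y)
      refine ⟨z, fun c => smul_left_cancel hdy ?_⟩
      rw [smul_comm, show d • z = germs G M (φ ⟨d, hd⟩) y from hz]
      have h1 : (c : A) • φ ⟨d, hd⟩ = d • φ c := by
        rw [← map_smul, ← map_smul]
        exact congrArg φ (Subtype.ext (mul_comm (c : A) d))
      simpa using congrFun (congrArg (germs G M) h1) y
    choose z hz using hsol
    obtain ⟨m, hm⟩ := hc.2 ⟨z, fun y => by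
      obtain ⟨d, hd, hdy⟩ := SetLike.not_le_iff_exists.1 (hne y)
      exact ⟨d, hdy, φ ⟨d, hd⟩, fun y' _ => hz y' ⟨d, hd⟩⟩⟩
    refine ⟨m, LinearMap.ext fun c => hc.1 (Subtype.ext ?_)⟩
    show germs G M (homMap p M m c) = germs G M (φ c)
    rw [homMap_apply, map_smul, show germs G M m = z from congrArg Subtype.val hm]
    exact funext fun y => hz y c

variable [IsNoetherianRing A]

theorem isClosedOn_of_homMap (hG : ∀ y z : PrimeSpectrum A, y.asIdeal ≤ z.asIdeal → z ∈ G → y ∈ G)
    (h : ∀ (p : Ideal A) (hp : p.IsPrime), (⟨p, hp⟩ : PrimeSpectrum A) ∉ G → Function.Bijective (homMap p M)) :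
    IsClosedOn G M := by
  classical
  have hass : ∀ q ∈ associatedPrimes A M, ∃ hq : q.IsPrime, (⟨q, hq⟩ : PrimeSpectrum A) ∈ G := by
    intro q hq
    obtain ⟨hqp, n, hn⟩ := isAssociatedPrime_iff.1 hq
    refine ⟨hqp, by_contra fun hqG => ?_⟩
    have hn0 : n = 0 := (h q hqp hqG).1 (by
      rw [map_zero]
      refine LinearMap.ext fun c => ?_
      have := hn.le c.2
      rw [Submodule.mem_colon_singleton, Submodule.mem_bot] at this
      rw [homMap_apply, this, LinearMap.zero_apply])
    refine hqp.ne_top ((Ideal.eq_top_iff_one _).2 (hn.ge ?_))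
    rw [Submodule.mem_colon_singleton, hn0, smul_zero]
    exact zero_mem _
  -- an element whose germs vanish on `D(f)` is killed by a power of `f`
  have hpow : ∀ (f : A) (m : M), (∀ y : G, f ∉ y.1.asIdeal → germs G M m y = 0) → ∃ n : ℕ, f ^ n • m = 0 := by
    intro f m hm
    have hrad : f ∈ (Module.annihilator A (Submodule.span A {m})).radical := by
      rw [← Ideal.sInf_minimalPrimes, Submodule.mem_sInf]
      intro Q hQ
      obtain ⟨hQp, hQG⟩ := hass Q (associatedPrimes.subset_of_injective
        (f := (Submodule.span A {m}).subtype) (Submodule.injective_subtype _)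
        (Module.associatedPrimes.minimalPrimes_annihilator_subset_associatedPrimes A _ hQ))
      by_contra hfQ
      obtain ⟨u, hu, hum⟩ := (germs_apply_eq_zero_iff (⟨⟨Q, hQp⟩, hQG⟩ : G) m).1 (hm _ hfQ)
      refine hu (hQ.1.2 ?_)
      rw [← Submodule.annihilator, Submodule.annihilator_span_singleton, LinearMap.mem_ker,
        LinearMap.toSpanSingleton_apply]
      exact hum
    obtain ⟨n, hn⟩ := hrad
    refine ⟨n, ?_⟩
    rw [← Submodule.annihilator, Submodule.annihilator_span_singleton, LinearMap.mem_ker,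
      LinearMap.toSpanSingleton_apply] at hn
    exact hn
  refine ⟨fun a b hab => ?_, fun v => ?_⟩
  · rw [← sub_eq_zero]
    obtain ⟨n, hn⟩ := hpow 1 (a - b) fun y _ => by
      rw [map_sub, Pi.sub_apply, sub_eq_zero]
      exact congrFun (congrArg Subtype.val hab) y
    simpa using hn
  · let gen : M →ₗ[A] Sec G M := (germs G M).codRestrict _ fun m => germs_mem m
    have hgen : Function.Injective gen := fun a b hab => by
      rw [← sub_eq_zero]
      obtain ⟨n, hn⟩ := hpow 1 (a - b) fun y _ => by
        rw [map_sub, Pi.sub_apply, sub_eq_zero]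
        exact congrFun (congrArg Subtype.val hab) y
      simpa using hn
    show ∃ m, gen m = v
    by_contra hcon
    have hv : (Submodule.Quotient.mk v : Sec G M ⧸ LinearMap.range gen) ≠ 0 := fun h0 =>
      hcon ((Submodule.Quotient.mk_eq_zero _).1 h0)
    obtain ⟨p, hp, -⟩ := exists_le_isAssociatedPrime_of_isNoetherianRing A _ hv
    obtain ⟨hpp, q, hpq⟩ := isAssociatedPrime_iff.1 hp
    obtain ⟨w, rfl⟩ := Submodule.Quotient.mk_surjective _ q
    have hmem : ∀ r, r ∈ p ↔ ∃ m, gen m = r • w := fun r => by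
      rw [hpq, Submodule.mem_colon_singleton, Submodule.mem_bot, ← Submodule.Quotient.mk_smul,
        Submodule.Quotient.mk_eq_zero, LinearMap.mem_range]
    have hpG : (⟨p, hpp⟩ : PrimeSpectrum A) ∉ G := fun hG' => by
      obtain ⟨f, hf, m, hm⟩ := w.2 ⟨⟨p, hpp⟩, hG'⟩
      choose g hg mg hmg using fun y : G => w.2 y
      obtain ⟨S, hSsub, hS⟩ := (Submodule.fg_span_iff_fg_span_finset_subset _).1
        (IsNoetherian.noetherian (Submodule.span A (Set.range g)))
      have hkey : ∀ a : S, ∃ (n : ℕ), ∀ z : G, a.1 ∉ z.1.asIdeal → f ^ n • (f • w.1 z - germs G M m z) = 0 := by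
        intro a
        obtain ⟨y, hy⟩ := hSsub a.2
        obtain ⟨k, hk⟩ := hpow (f * g y) (f • mg y - g y • m) fun z hz => by
          rw [map_sub, map_smul, map_smul, Pi.sub_apply, Pi.smul_apply, Pi.smul_apply,
            ← hmg y z fun h => hz (Ideal.mul_mem_left _ _ h), ← hm z fun h => hz (Ideal.mul_mem_right _ _ h),
            smul_comm, sub_self]
        refine ⟨k, fun z hz => ?_⟩
        rw [← hy] at hz
        refine smul_left_cancel (f := g y ^ k * g y)
          (fun hh => (z.1.isPrime.mem_or_mem hh).elim (fun h => hz (z.1.isPrime.mem_of_pow_mem _ h)) hz) ?_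
        have h1 : g y • (f • w.1 z - germs G M m z) = germs G M (f • mg y - g y • m) z := by
          rw [smul_sub, smul_comm (g y) f, hmg y z hz, map_sub, map_smul, map_smul]
          rfl
        have h2 : germs G M ((f * g y) ^ k • (f • mg y - g y • m)) z = 0 := by rw [hk, map_zero]; rfl
        rw [smul_zero, smul_smul, show g y ^ k * g y * f ^ k = (f * g y) ^ k * g y by ring, mul_smul, h1]
        rw [map_smul] at h2
        exact h2
      choose n hn using hkey
      have hfn : f ^ (Finset.univ.sup n) • (f • w - gen m) = 0 := Subtype.ext (funext fun z => by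
        obtain ⟨a, haS, haz⟩ : ∃ a ∈ S, a ∉ z.1.asIdeal := by
          by_contra hcon
          push Not at hcon
          have : g z ∈ Submodule.span A (S : Set A) := hS ▸ Submodule.subset_span ⟨z, rfl⟩
          exact hg z ((Submodule.span_le.2 fun a ha => hcon a ha) this)
        obtain ⟨d, hd⟩ := Nat.exists_eq_add_of_le (Finset.le_sup (f := n) (Finset.mem_univ ⟨a, haS⟩))
        show f ^ (Finset.univ.sup n) • (f • w.1 z - germs G M m z) = 0
        rw [hd, add_comm, pow_add, mul_smul, hn ⟨a, haS⟩ z haz, smul_zero])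
      rw [smul_sub, sub_eq_zero, smul_smul, ← pow_succ, ← map_smul] at hfn
      exact hf (hpp.mem_of_pow_mem _ ((hmem _).2 ⟨_, hfn.symm⟩))
    obtain ⟨m, hm⟩ := (h p hpp hpG).2
      { toFun := fun c => ((hmem c.1).1 c.2).choose
        map_add' := fun c d => hgen (by
          rw [map_add, ((hmem _).1 (c + d).2).choose_spec, ((hmem _).1 c.2).choose_spec,
            ((hmem _).1 d.2).choose_spec]
          exact add_smul _ _ _)
        map_smul' := fun r c => hgen (by
          rw [RingHom.id_apply, map_smul, ((hmem _).1 (r • c).2).choose_spec, ((hmem _).1 c.2).choose_spec]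
          exact mul_smul _ _ _) }
    refine hpp.ne_top ((Ideal.eq_top_iff_one p).2 ((hmem 1).2 ⟨m, ?_⟩))
    rw [one_smul, ← sub_eq_zero]
    refine eq_zero_of_smul_prime (p := p) (fun y hy hle => hpG (hG ⟨p, hpp⟩ y hle hy)) _ fun c hc => ?_
    have h1 := LinearMap.congr_fun hm ⟨c, hc⟩
    rw [homMap_apply] at h1
    rw [smul_sub, ← map_smul, h1, sub_eq_zero]
    exact ((hmem c).1 hc).choose_spec

omit [IsNoetherianRing A] in
/-- Sections satisfy the criterion. -/
theorem homMap_bijective_sec {p : Ideal A} (hp : ∀ y ∈ G, ¬ p ≤ y.asIdeal) :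
    Function.Bijective (homMap p (Sec G M)) := by
  refine ⟨(injective_iff_map_eq_zero _).2 fun v hv => eq_zero_of_smul_prime hp v fun c hc => by
    simpa using LinearMap.congr_fun hv ⟨c, hc⟩, fun φ => ?_⟩
  have hsol : ∀ y : G, ∃ z : LocalizedModule y.1.asIdeal.primeCompl M,
      ∀ c : p, (c : A) • z = (φ c).1 y := fun y => by
    obtain ⟨d, hd, hdy⟩ := SetLike.not_le_iff_exists.1 (hp y.1 y.2)
    obtain ⟨z, hz⟩ := ((Module.End.isUnit_iff _).1 (IsLocalizedModule.map_units
      (LocalizedModule.mkLinearMap y.1.asIdeal.primeCompl M) (⟨d, hdy⟩ : y.1.asIdeal.primeCompl))).2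
        ((φ ⟨d, hd⟩).1 y)
    refine ⟨z, fun c => smul_left_cancel hdy ?_⟩
    rw [smul_comm, show d • z = (φ ⟨d, hd⟩).1 y from hz]
    have h1 : (c : A) • φ ⟨d, hd⟩ = d • φ c := by
      rw [← map_smul, ← map_smul]
      exact congrArg φ (Subtype.ext (mul_comm (c : A) d))
    exact congrFun (congrArg Subtype.val h1) y
  choose z hz using hsol
  refine ⟨⟨z, fun y => ?_⟩, LinearMap.ext fun c => Subtype.ext (funext fun y => hz y c)⟩
  obtain ⟨d, hd, hdy⟩ := SetLike.not_le_iff_exists.1 (hp y.1 y.2)
  obtain ⟨g, hg, m, hm⟩ := (φ ⟨d, hd⟩).2 y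
  refine ⟨g * d, fun hh => (y.1.isPrime.mem_or_mem hh).elim hg hdy, m, fun y' hy' => ?_⟩
  rw [mul_smul, show d • z y' = (φ ⟨d, hd⟩).1 y' from hz y' ⟨d, hd⟩]
  exact hm y' fun h => hy' (Ideal.mul_mem_right _ _ h)

omit [IsNoetherianRing A] in
theorem homMap_bijective_congr {N : Type u} [AddCommGroup N] [Module A N] (e : M ≃ₗ[A] N) {I : Ideal A}
    (h : Function.Bijective (homMap I M)) : Function.Bijective (homMap I N) := by
  refine ⟨(injective_iff_map_eq_zero _).2 fun n hn => e.symm.injective ?_, fun φ => ?_⟩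
  · rw [map_zero]
    refine h.1 ?_
    rw [map_zero]
    refine LinearMap.ext fun c => ?_
    have h1 : (c : A) • n = 0 := by simpa using LinearMap.congr_fun hn c
    rw [homMap_apply, ← map_smul, h1, map_zero, LinearMap.zero_apply]
  · obtain ⟨m, hm⟩ := h.2 (e.symm.toLinearMap ∘ₗ φ)
    refine ⟨e m, LinearMap.ext fun c => ?_⟩
    rw [homMap_apply, ← map_smul, ← homMap_apply I m c, hm]
    simp

end Crit

section BaseChange

variable {A : Type u} [CommRing A] {M : Type u} [AddCommGroup M] [Module A M]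
  (B : Type u) [CommRing B] [Algebra A B] [Module.Flat A B]
  {N : Type u} [AddCommGroup N] [Module A N] [Module B N] [IsScalarTower A B N] {k : M →ₗ[A] N}

theorem homMap_bijective_baseChange [IsNoetherianRing A] (hk : IsBaseChange B k) {I : Ideal A}
    (hb : Function.Bijective (homMap I M)) : Function.Bijective (homMap (I.map (algebraMap A B)) N) := by
  haveI : Module.FinitePresentation A I := Module.finitePresentation_of_finite A I
  -- transport along the base change isomorphisms
  let eN : B ⊗[A] M ≃ₗ[B] N := hk.equiv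
  have hH := Module.FinitePresentation.isBaseChange_map A I M B
  let eH : B ⊗[A] (I →ₗ[A] M) ≃ₗ[B] (B ⊗[A] I →ₗ[B] B ⊗[A] M) := hH.equiv
  let α : B ⊗[A] M ≃ₗ[B] B ⊗[A] (I →ₗ[A] M) := (LinearEquiv.ofBijective _ hb).baseChange A B _ _
  let μ : B ⊗[A] I →ₗ[B] ↥(I.map (algebraMap A B)) :=
    LinearMap.liftBaseChange B
      { toFun := fun c => ⟨algebraMap A B c, Ideal.mem_map_of_mem _ c.2⟩
        map_add' := fun c d => Subtype.ext (map_add _ _ _)
        map_smul' := fun r c => Subtype.ext (by
          show algebraMap A B (r * c) = r • algebraMap A B c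
          rw [map_mul, Algebra.smul_def]) }
  have hμ : Function.Surjective μ := fun z => by
    suffices H : ∀ a ∈ Submodule.span B (algebraMap A B '' (I : Set A)), ∃ x, (μ x : B) = a by
      obtain ⟨x, hx⟩ := H z.1 z.2
      exact ⟨x, Subtype.ext hx⟩
    intro a hz
    induction hz using Submodule.span_induction with
    | mem v hv =>
      obtain ⟨c, hc, rfl⟩ := hv
      exact ⟨1 ⊗ₜ ⟨c, hc⟩, congrArg Subtype.val (LinearMap.liftBaseChange_one_tmul B _ _)⟩
    | zero => exact ⟨0, by rw [map_zero]; rfl⟩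
    | add a b _ _ ha hb =>
      obtain ⟨a', ha'⟩ := ha; obtain ⟨b', hb'⟩ := hb
      exact ⟨a' + b', by rw [map_add, Submodule.coe_add, ha', hb']⟩
    | smul r a _ ha =>
      obtain ⟨a', ha'⟩ := ha
      exact ⟨r • a', by rw [map_smul, Submodule.coe_smul, ha']⟩
  have key : ∀ (n : B ⊗[A] M) (z : B ⊗[A] I), eN (eH (α n) z) = (μ z : B) • eN n := by
    intro n z
    induction z using TensorProduct.induction_on with
    | zero => simp
    | add x y hx hy => rw [map_add, map_add, hx, hy, map_add, Submodule.coe_add, add_smul]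
    | tmul b c =>
      induction n using TensorProduct.induction_on with
      | zero => simp
      | add x y hx hy => rw [map_add, map_add, LinearMap.add_apply, map_add, hx, hy, map_add, smul_add]
      | tmul b' m =>
        have h1 : α (b' ⊗ₜ m) = b' ⊗ₜ homMap I M m := by simp [α]
        rw [h1, show eH (b' ⊗ₜ homMap I M m) = b' • LinearMap.baseChangeHom A B I M (homMap I M m) from
          hH.equiv_tmul b' _]
        simp [μ, eN, hk.equiv_tmul, ← algebraMap_smul B]
        simp only [Algebra.algebraMap_self, RingHom.id_apply, smul_smul]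
        congr 1
        ring
  refine ⟨(injective_iff_map_eq_zero _).2 fun x hx => ?_, fun φ => ?_⟩
  · obtain ⟨n, rfl⟩ := eN.surjective x
    have h0 : eH (α n) = 0 := LinearMap.ext fun z => eN.injective (by
      rw [key, LinearMap.zero_apply, map_zero, ← homMap_apply (I.map (algebraMap A B)) (eN n) (μ z), hx,
        LinearMap.zero_apply])
    rw [LinearEquiv.map_eq_zero_iff, LinearEquiv.map_eq_zero_iff] at h0
    rw [h0, map_zero]
  · obtain ⟨n, hn⟩ := (α.trans eH).surjective (eN.symm.toLinearMap ∘ₗ φ ∘ₗ μ)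
    refine ⟨eN n, LinearMap.ext fun c => ?_⟩
    obtain ⟨z, rfl⟩ := hμ c
    rw [homMap_apply, ← key, show eH (α n) = _ from hn]
    simp

/-- Closedness is preserved by flat base change. -/
theorem isClosedOn_baseChange [IsNoetherianRing A] [IsNoetherianRing B] (hk : IsBaseChange B k)
    {G : Set (PrimeSpectrum A)} (hG : ∀ y z : PrimeSpectrum A, y.asIdeal ≤ z.asIdeal → z ∈ G → y ∈ G)
    {G' : Set (PrimeSpectrum B)} (hG' : ∀ q, q ∈ G' ↔ PrimeSpectrum.comap (algebraMap A B) q ∈ G)
    (hc : IsClosedOn G M) : IsClosedOn G' N := by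
  refine isClosedOn_of_homMap (fun y z hyz hz => (hG' y).2 (hG _ _ (Ideal.comap_mono hyz) ((hG' z).1 hz))) ?_
  intro q hq hqG
  refine homMap_bijective_mono Ideal.map_comap_le
    (homMap_bijective_baseChange B hk (homMap_bijective_of_closedOn hG hc (p := q.comap (algebraMap A B)) ?_))
  exact fun h => hqG ((hG' ⟨q, hq⟩).2 h)

end BaseChange

end Groth.Agent.H18.Sec
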