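import Groth.Agent.H18.Sec.Basic
import Groth.Agent.H25.Hull
import Mathlib.Algebra.Module.LocalizedModule.Basic

/-!
# Sections of a domain quotient are a hull
-/

set_option linter.style.haveILetI false

universe u

namespace Groth.Agent.H18.Sec

variable {A : Type u} [CommRing A] {G : Set (PrimeSpectrum A)}

/-- Sections are zero if no prime in `G` is in the support. -/
theorem finite_of_forall_exists_smul (M : Type u) [AddCommGroup M] [Module A M]
    (h : ∀ (y : G) (m : M), ∃ u : A, u ∉ y.1.asIdeal ∧ u • m = 0) : Module.Finite A (Sec G M) := by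
  haveI : Subsingleton (Sec G M) := ⟨fun v w => Subtype.ext (funext fun y => by
    obtain ⟨⟨x, s⟩, hx⟩ := IsLocalizedModule.surj y.1.asIdeal.primeCompl
      (LocalizedModule.mkLinearMap y.1.asIdeal.primeCompl M) (v.1 y - w.1 y)
    rw [← sub_eq_zero]
    refine smul_left_cancel (f := (s : A)) s.2 ?_
    rw [smul_zero]
    exact hx.trans ((germs_apply_eq_zero_iff y x).2 (h y x)))⟩
  infer_instance

variable {D : Type u} [CommRing D] [IsDomain D] [Algebra A D]

theorem ker_not_le_of_notMem {y : PrimeSpectrum A} (hy : RingHom.ker (algebraMap A D) ≤ y.asIdeal)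
    {f : A} (hf : f ∉ y.asIdeal) : algebraMap A D f ≠ 0 := fun h => hf (hy h)

/-- Sections of a domain quotient with generic point in `G` are finite iff the hull is finite. -/
theorem finite_iff_hull (hsurj : Function.Surjective (algebraMap A D))
    (hP : (⟨RingHom.ker (algebraMap A D), RingHom.ker_isPrime _⟩ : PrimeSpectrum A) ∈ G)
    (GD : Ideal D → Prop)
    (hGD : ∀ (Q : Ideal D) [Q.IsPrime], GD Q ↔
      (⟨Q.comap (algebraMap A D), Ideal.IsPrime.comap _⟩ : PrimeSpectrum A) ∈ G) :
    Module.Finite A (Sec G D) ↔ Module.Finite D (H25.Hull.hull GD) := by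
  classical
  set K := FractionRing D
  set P : G := ⟨⟨RingHom.ker (algebraMap A D), RingHom.ker_isPrime _⟩, hP⟩ with hPdef
  have hne : ∀ (y : PrimeSpectrum A) (f : A), RingHom.ker (algebraMap A D) ≤ y.asIdeal → f ∉ y.asIdeal →
      algebraMap A K f ≠ 0 := fun y f hy hf => by
    rw [IsScalarTower.algebraMap_apply A D K]
    exact (map_ne_zero_iff _ (IsFractionRing.injective D K)).2 (ker_not_le_of_notMem hy hf)
  -- the embedding of a stalk into the fraction field
  have hj : ∀ y : PrimeSpectrum A, RingHom.ker (algebraMap A D) ≤ y.asIdeal →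
      ∃ j : LocalizedModule y.asIdeal.primeCompl D →ₗ[A] K, Function.Injective j ∧
        ∀ d : D, j (LocalizedModule.mkLinearMap y.asIdeal.primeCompl D d) = algebraMap D K d := by
    intro y hy
    let g : D →ₗ[A] K := (IsScalarTower.toAlgHom A D K).toLinearMap
    have hu : ∀ x : y.asIdeal.primeCompl, IsUnit (algebraMap A (Module.End A K) x) := fun x => by
      rw [Module.End.isUnit_iff]
      refine ⟨fun a b e => mul_left_cancel₀ (hne y x hy x.2) ?_, fun b => ⟨(algebraMap A K x)⁻¹ * b, ?_⟩⟩
      · simpa [Algebra.smul_def] using e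
      · simp [Algebra.smul_def, mul_inv_cancel_left₀ (hne y x hy x.2)]
    refine ⟨IsLocalizedModule.lift y.asIdeal.primeCompl (LocalizedModule.mkLinearMap y.asIdeal.primeCompl D) g hu, ?_, fun d => ?_⟩
    · refine (injective_iff_map_eq_zero _).2 fun z hz => ?_
      obtain ⟨⟨d, s⟩, hds⟩ := IsLocalizedModule.surj y.asIdeal.primeCompl
        (LocalizedModule.mkLinearMap y.asIdeal.primeCompl D) z
      have h1 : g d = 0 := by
        rw [← IsLocalizedModule.lift_apply y.asIdeal.primeCompl (LocalizedModule.mkLinearMap y.asIdeal.primeCompl D) g hu d,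
          ← hds, LinearMap.map_smul_of_tower, hz, smul_zero]
      have hd : d = 0 := IsFractionRing.injective D K (by rw [map_zero]; exact h1)
      refine IsLocalizedModule.smul_injective (LocalizedModule.mkLinearMap y.asIdeal.primeCompl D) s ?_
      show s • z = s • 0
      rw [smul_zero]
      exact hds.trans (by rw [hd, map_zero])
    · exact IsLocalizedModule.lift_apply y.asIdeal.primeCompl (LocalizedModule.mkLinearMap y.asIdeal.primeCompl D) g hu d
  have hzero : ∀ y : G, ¬ RingHom.ker (algebraMap A D) ≤ y.1.asIdeal → ∀ d : D, germs G D d y = 0 :=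
    fun y hy d => by
      obtain ⟨u, hu, huy⟩ := SetLike.not_le_iff_exists.1 hy
      exact (germs_apply_eq_zero_iff y d).2 ⟨u, huy, by rw [Algebra.smul_def, RingHom.mem_ker.1 hu, zero_mul]⟩
  choose j hjinj hjd using hj
  let Φ : Sec G D →ₗ[A] K := (j P.1 le_rfl) ∘ₗ (LinearMap.proj P) ∘ₗ (Sec G D).subtype
  have hkey : ∀ (v : Sec G D) (y : G), RingHom.ker (algebraMap A D) ≤ y.1.asIdeal →
      ∃ f : A, f ∉ y.1.asIdeal ∧ ∃ d : D, f • v.1 y = germs G D d y ∧
        algebraMap A K f * Φ v = algebraMap D K d := by
    intro v y hy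
    obtain ⟨f, hf, d, hd⟩ := v.2 y
    refine ⟨f, hf, d, hd y hf, ?_⟩
    rw [← Algebra.smul_def]
    show f • j P.1 le_rfl (v.1 P) = _
    rw [← map_smul, hd P fun h => hf (hy h)]
    exact hjd P.1 le_rfl d
  have hΦinj : Function.Injective Φ := (injective_iff_map_eq_zero _).2 fun v hv =>
    Subtype.ext (funext fun y => by
      show v.1 y = 0
      by_cases hy : RingHom.ker (algebraMap A D) ≤ y.1.asIdeal
      · obtain ⟨f, hf, d, hd, he⟩ := hkey v y hy
        rw [hv, mul_zero] at he
        have hd0 : d = 0 := IsFractionRing.injective D K (by rw [map_zero]; exact he.symm)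
        exact smul_left_cancel hf (by rw [hd, hd0, map_zero, smul_zero]; rfl)
      · obtain ⟨f, hf, d, hd⟩ := v.2 y
        exact smul_left_cancel hf (by rw [hd y hf, hzero y hy d, smul_zero]))
  have hrange : LinearMap.range Φ = (Subalgebra.toSubmodule (H25.Hull.hull GD)).restrictScalars A := by
    refine le_antisymm ?_ fun x hx => ?_
    · rintro _ ⟨v, rfl⟩ Q hQ hGQ
      haveI := hQ
      obtain ⟨f, hf, d, -, he⟩ := hkey v ⟨_, (hGD Q).1 hGQ⟩ (fun a ha => by
        show algebraMap A D a ∈ Q
        rw [RingHom.mem_ker.1 ha]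
        exact Q.zero_mem)
      exact ⟨algebraMap A D f, hf, d, by rw [← he, IsScalarTower.algebraMap_apply A D K]⟩
    · have hloc : ∀ y : G, RingHom.ker (algebraMap A D) ≤ y.1.asIdeal →
          ∃ (f : A) (_ : f ∉ y.1.asIdeal) (d : D), algebraMap A K f * x = algebraMap D K d := by
        intro y hy
        haveI := Ideal.map_isPrime_of_surjective hsurj (I := y.1.asIdeal) hy
        have hc : (y.1.asIdeal.map (algebraMap A D)).comap (algebraMap A D) = y.1.asIdeal := by
          rw [Ideal.comap_map_of_surjective' _ hsurj, sup_eq_left.2 hy]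
        have hG' : GD (y.1.asIdeal.map (algebraMap A D)) :=
          (hGD _).2 (by convert y.2 using 1; exact PrimeSpectrum.ext hc)
        obtain ⟨s, hs, a, ha⟩ := hx _ hG'
        obtain ⟨f, rfl⟩ := hsurj s
        refine ⟨f, fun h => hs (Ideal.mem_map_of_mem _ h), a, ?_⟩
        rw [ha, IsScalarTower.algebraMap_apply A D K]
      choose f hf d hd using hloc
      let v : Stalks G D := fun y =>
        if hy : RingHom.ker (algebraMap A D) ≤ y.1.asIdeal then LocalizedModule.mk (d y hy) ⟨f y hy, hf y hy⟩
        else 0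
      have hjv : ∀ (y : G) (hy : RingHom.ker (algebraMap A D) ≤ y.1.asIdeal), j y.1 hy (v y) = x := fun y hy => by
        refine mul_left_cancel₀ (hne y.1 _ hy (hf y hy)) ?_
        rw [← Algebra.smul_def, ← map_smul, hd y hy, ← hjd y.1 hy (d y hy)]
        congr 1
        simp only [v, dif_pos hy]
        rw [LocalizedModule.smul'_mk]
        exact LocalizedModule.mk_cancel (⟨f y hy, hf y hy⟩ : y.1.asIdeal.primeCompl) (d y hy)
      refine ⟨⟨v, fun y => ?_⟩, ?_⟩
      · by_cases hy : RingHom.ker (algebraMap A D) ≤ y.1.asIdeal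
        · refine ⟨f y hy, hf y hy, d y hy, fun y' h' => ?_⟩
          by_cases hy' : RingHom.ker (algebraMap A D) ≤ y'.1.asIdeal
          · refine hjinj y'.1 hy' ?_
            rw [map_smul, hjv y' hy', Algebra.smul_def, hd y hy]
            exact (hjd y'.1 hy' _).symm
          · simp only [v, dif_neg hy', smul_zero, hzero y' hy']
        · obtain ⟨u, hu, huy⟩ := SetLike.not_le_iff_exists.1 hy
          refine ⟨u, huy, 0, fun y' h' => ?_⟩
          have hy' : ¬ RingHom.ker (algebraMap A D) ≤ y'.1.asIdeal := fun hle => h' (hle hu)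
          simp only [v, dif_neg hy', smul_zero, map_zero, Pi.zero_apply]
      · exact hjv P le_rfl
  constructor
  · intro h
    haveI : Module.Finite A (LinearMap.range Φ) := Module.Finite.range Φ
    rw [hrange] at this
    haveI : Module.Finite A (H25.Hull.hull GD) := this
    exact Module.Finite.of_restrictScalars_finite A D _
  · intro h
    haveI : Module.Finite A D := Module.Finite.of_surjective (Algebra.linearMap A D) hsurj
    haveI : Module.Finite A (H25.Hull.hull GD) := Module.Finite.trans D _
    have : Module.Finite A (LinearMap.range Φ) := by rw [hrange]; exact this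
    exact Module.Finite.equiv (LinearEquiv.ofInjective Φ hΦinj).symm

end Groth.Agent.H18.Sec
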