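import Groth.Agent.H18.Sec.Bridge
import Groth.Agent.H18.Sec.Hull
import Groth.Agent.Lib.QCoh.Pushforward
import Groth.Agent.Lib.CohBasics.Closure
import Groth.Prelude.Def_EGA4c
import Mathlib.AlgebraicGeometry.Morphisms.QuasiSeparated

/-!
# Coherence of the `Z`-closure
-/

set_option linter.style.haveILetI false

universe u

open CategoryTheory Limits AlgebraicGeometry Opposite TopologicalSpace

namespace Groth.Agent.H18.Sec

open H18.ZClos

section Transport

variable {A A' : Type u} [CommRing A] [CommRing A'] {M M' : Type u} [AddCommGroup M] [Module A M]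
  [AddCommGroup M'] [Module A' M']

/-- Finiteness of sections is invariant under semilinear isomorphisms. -/
theorem finite_congr [IsNoetherianRing A] [IsNoetherianRing A'] (σ : A ≃+* A') (e : M ≃+ M')
    (he : ∀ (a : A) (m : M), e (a • m) = σ a • e m) {G : Set (PrimeSpectrum A)} {G' : Set (PrimeSpectrum A')}
    (hG : ∀ y : PrimeSpectrum A', y ∈ G' ↔ PrimeSpectrum.comap σ.toRingHom y ∈ G)
    [Module.Finite A' (Sec G' M')] : Module.Finite A (Sec G M) := by
  letI : Algebra A A' := σ.toRingHom.toAlgebra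
  haveI : Module.Finite A A' := Module.Finite.of_surjective (Algebra.linearMap A A') σ.surjective
  letI : Module A M' := Module.compHom M' σ.toRingHom
  haveI : IsScalarTower A A' M' := ⟨fun a a' m => mul_smul (σ a) a' m⟩
  let eₗ : M →ₗ[A] M' := { toFun := e, map_add' := e.map_add, map_smul' := he }
  let c : G' → G := fun y => ⟨PrimeSpectrum.comap σ.toRingHom y.1, (hG y.1).1 y.2⟩
  have hu : ∀ (y : G') (x : (c y).1.asIdeal.primeCompl),
      IsUnit (algebraMap A (Module.End A (LocalizedModule y.1.asIdeal.primeCompl M')) x) := fun y x => by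
    have h := (Module.End.isUnit_iff _).1 (IsLocalizedModule.map_units
      (LocalizedModule.mkLinearMap y.1.asIdeal.primeCompl M') (⟨σ (x : A), x.2⟩ : y.1.asIdeal.primeCompl))
    rw [Module.End.isUnit_iff]
    convert h using 1
    funext z
    exact (algebraMap_smul A' (x : A) z).symm
  let g : ∀ y : G', M →ₗ[A] LocalizedModule y.1.asIdeal.primeCompl M' := fun y =>
    ((LocalizedModule.mkLinearMap y.1.asIdeal.primeCompl M').restrictScalars A) ∘ₗ eₗ
  let t : ∀ y : G', LocalizedModule (c y).1.asIdeal.primeCompl M →ₗ[A] LocalizedModule y.1.asIdeal.primeCompl M' :=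
    fun y => IsLocalizedModule.lift (c y).1.asIdeal.primeCompl
      (LocalizedModule.mkLinearMap (c y).1.asIdeal.primeCompl M) (g y) (hu y)
  have ht : ∀ y m, t y (germs G M m (c y)) = germs G' M' (e m) y := fun y m =>
    IsLocalizedModule.lift_apply (c y).1.asIdeal.primeCompl
      (LocalizedModule.mkLinearMap (c y).1.asIdeal.primeCompl M) (g y) (hu y) m
  let θ : Sec G M →ₗ[A] Sec G' M' :=
    { toFun := fun v => ⟨fun y => t y (v.1 (c y)), fun y => by
        obtain ⟨f, hf, m, hm⟩ := v.2 (c y)
        refine ⟨σ f, hf, e m, fun y' hy' => ?_⟩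
        show algebraMap A A' f • t y' (v.1 (c y')) = _
        rw [algebraMap_smul, ← map_smul, hm (c y') hy']
        exact ht y' m⟩
      map_add' := fun v w => Subtype.ext (funext fun y => map_add (t y) _ _)
      map_smul' := fun a v => Subtype.ext (funext fun y => map_smul (t y) a _) }
  have hθ : Function.Injective θ := (injective_iff_map_eq_zero _).2 fun v hv => Subtype.ext (funext fun y => by
    show v.1 y = 0
    obtain ⟨f, hf, m, hm⟩ := v.2 y
    have hy : PrimeSpectrum.comap σ.toRingHom (PrimeSpectrum.comap σ.symm.toRingHom y.1) = y.1 :=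
      PrimeSpectrum.ext (by ext a; simp)
    let y' : G' := ⟨PrimeSpectrum.comap σ.symm.toRingHom y.1, (hG _).2 (by rw [hy]; exact y.2)⟩
    have h0 : germs G' M' (e m) y' = 0 := by
      rw [← ht y' m, ← hm (c y') (show σ.symm (σ f) ∉ y.1.asIdeal by simpa using hf), map_smul]
      rw [show t y' (v.1 (c y')) = (θ v).1 y' from rfl, hv]
      exact smul_zero _
    obtain ⟨u, hu', hum⟩ := (germs_apply_eq_zero_iff y' _).1 h0
    refine smul_left_cancel hf ?_
    rw [hm y hf, smul_zero]
    refine (germs_apply_eq_zero_iff y m).2 ⟨σ.symm u, hu', e.injective ?_⟩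
    rw [he, RingEquiv.apply_symm_apply, hum, map_zero])
  haveI : Module.Finite A (Sec G' M') := Module.Finite.trans A' _
  haveI : IsNoetherian A (Sec G' M') := isNoetherian_of_isNoetherianRing_of_finite A _
  exact Module.Finite.of_injective θ hθ

end Transport

/-- The finiteness theorem: finite hulls and codimension two give finite sections. -/
theorem finite_of_hull {A : Type u} [CommRing A] [IsNoetherianRing A] (G : Set (PrimeSpectrum A))
    (hG : ∀ y z : PrimeSpectrum A, y.asIdeal ≤ z.asIdeal → z ∈ G → y ∈ G)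
    (M : Type u) [AddCommGroup M] [Module A M] [Module.Finite A M]
    (h : ∀ x : PrimeSpectrum A, x.asIdeal ∈ associatedPrimes A M → x ∈ G →
      EGA4.HeightOneHullFinite (A ⧸ x.asIdeal) ∧
        ∀ y, y ∉ G → x.asIdeal ≤ y.asIdeal → (2 : ℕ∞) ≤ (y.asIdeal.map (Ideal.Quotient.mk x.asIdeal)).height) :
    Module.Finite A (Sec G M) := by
  refine finite_of_forall_ass fun p hp => ?_
  haveI hpp : p.IsPrime := hp.isPrime
  by_cases hpG : (⟨p, hpp⟩ : PrimeSpectrum A) ∈ G
  · obtain ⟨⟨B', hB', hfin⟩, hht⟩ := h ⟨p, hpp⟩ hp hpG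
    refine (finite_iff_hull (A := A) (D := A ⧸ p) Ideal.Quotient.mk_surjective ?_
      (fun Q => ∀ _ : Q.IsPrime, (⟨Q.comap (algebraMap A (A ⧸ p)), Ideal.IsPrime.comap _⟩ : PrimeSpectrum A) ∈ G)
      fun Q _ => ⟨fun hQ => hQ ‹_›, fun hQ _ => hQ⟩).2 ?_
    · convert hpG using 1
      exact PrimeSpectrum.ext Ideal.mk_ker
    · have hle : (H25.Hull.hull fun Q : Ideal (A ⧸ p) => ∀ _ : Q.IsPrime,
          (⟨Q.comap (algebraMap A (A ⧸ p)), Ideal.IsPrime.comap _⟩ : PrimeSpectrum A) ∈ G).toSubmodule ≤
          B'.toSubmodule := by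
        intro x hx
        show x ∈ (B' : Set (FractionRing (A ⧸ p)))
        rw [hB']
        intro Q hQ h1
        refine hx Q fun _ => by_contra fun hQG => ?_
        have h2 := hht _ hQG (fun a ha => by
          show algebraMap A (A ⧸ p) a ∈ Q
          rw [Ideal.Quotient.algebraMap_eq, Ideal.Quotient.eq_zero_iff_mem.2 ha]
          exact Q.zero_mem)
        rw [show ((Q.comap (algebraMap A (A ⧸ p))).map (Ideal.Quotient.mk p)) = Q from
          Ideal.map_comap_of_surjective _ Ideal.Quotient.mk_surjective Q, h1] at h2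
        norm_cast at h2
      haveI : Module.Finite (A ⧸ p) B'.toSubmodule := hfin
      haveI : IsNoetherian (A ⧸ p) B'.toSubmodule := isNoetherian_of_isNoetherianRing_of_finite _ _
      exact Module.Finite.of_injective (Submodule.inclusion hle) (Submodule.inclusion_injective hle)
  · refine finite_of_forall_exists_smul _ fun y m => ?_
    obtain ⟨u, hu, huy⟩ := SetLike.not_le_iff_exists.1 fun hle => hpG (hG ⟨p, hpp⟩ y.1 hle y.2)
    exact ⟨u, huy, by rw [Algebra.smul_def, Ideal.Quotient.algebraMap_eq,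
      Ideal.Quotient.eq_zero_iff_mem.2 hu, zero_mul]⟩

section Scheme

variable {X : Scheme.{u}} [IsLocallyNoetherian X] {Z : Set X} {F : X.Modules} [F.IsQuasicoherent]

instance quasiCompact_opensι (U : X.Opens) : QuasiCompact U.ι where
  isCompact_preimage V hV hVc := by
    rw [U.ι.isOpenEmbedding.isInducing.isCompact_iff]
    have h : (U.ι.base '' (U.ι.base ⁻¹' V)) = ((⟨V, hV⟩ : X.Opens) ⊓ U : X.Opens) := by
      rw [Set.image_preimage_eq_inter_range, Scheme.Opens.range_ι]
      rfl
    exact h ▸ isCompact_of_le (V := ⟨V, hV⟩) hVc inf_le_left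

theorem isQCoh_resPush (U : X.Opens) : ((_root_.ZClos.resPush U).obj F).IsQuasicoherent := by
  haveI : ((Scheme.Modules.restrictFunctor U.ι).obj F).IsQuasicoherent := inferInstanceAs
    ((Scheme.Modules.restrict F U.ι).IsQuasicoherent)
  exact Lib.QCoh.Pushforward.isQCoh_pushforward U.ι

theorem isQCoh_H0 : ((_root_.ZClos.H0 Z).obj F).IsQuasicoherent := by
  haveI : ∀ T, (((_root_.ZClos.diagram Z).obj F).obj T).IsQuasicoherent := fun T => isQCoh_resPush T.U
  exact Lib.QCoh.Closure.isQCoh_colimit ((_root_.ZClos.diagram Z).obj F) this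

/-- Coherence of the closure in terms of sections on an affine cover. -/
theorem isCoh_H0_of_finite (hZ : StableUnderSpecialization Z)
    (h : ∀ x : X, ∃ (W : X.Opens) (hW : IsAffineOpen W), x ∈ W ∧
      Module.Finite Γ(X, W) (Sec (outside Z hW) Γ(F, W))) :
    Coh.IsCoh ((_root_.ZClos.H0 Z).obj F) := by
  haveI := isQCoh_H0 (Z := Z) (F := F)
  refine ⟨‹_›, Lib.CohBasics.Affine.isFiniteType_of_finite_sections fun x => ?_⟩
  obtain ⟨W, hW, hx, hfin⟩ := h x
  obtain ⟨e⟩ := exists_sectionsEquiv (F := F) hZ hW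
  exact ⟨W, hW, hx, Module.Finite.equiv e.symm⟩

theorem finite_of_isCoh_H0 (hZ : StableUnderSpecialization Z) (hH : Coh.IsCoh ((_root_.ZClos.H0 Z).obj F))
    {W : X.Opens} (hW : IsAffineOpen W) : Module.Finite Γ(X, W) (Sec (outside Z hW) Γ(F, W)) := by
  obtain ⟨e⟩ := exists_sectionsEquiv (F := F) hZ hW
  haveI := Lib.CohBasics.Closure.finite_sections hH hW
  exact Module.Finite.equiv e

theorem outside_generize (hZ : StableUnderSpecialization Z) {W : X.Opens} (hW : IsAffineOpen W)
    (y z : PrimeSpectrum Γ(X, W)) (hyz : y.asIdeal ≤ z.asIdeal) (hz : z ∈ outside Z hW) : y ∈ outside Z hW :=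
  fun h => hz (hZ (((PrimeSpectrum.le_iff_specializes y z).1 hyz).map hW.fromSpec.continuous) h)

end Scheme

end Groth.Agent.H18.Sec
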