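import Groth.Agent.H18.Sec.Basic
import Mathlib.RingTheory.Ideal.AssociatedPrime.Localization

/-!
# Sections have depth two outside
-/

set_option linter.style.haveILetI false

universe u

namespace Groth.Agent.H18.Sec

variable {A : Type u} [CommRing A] {G : Set (PrimeSpectrum A)} {M : Type u} [AddCommGroup M] [Module A M]
  {p : Ideal A} (hp : ∀ y ∈ G, ¬ p ≤ y.asIdeal)

include hp in
theorem eq_zero_of_smul_prime (v : Sec G M) (h : ∀ c ∈ p, c • v = 0) : v = 0 :=
  Subtype.ext <| funext fun y => by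
    obtain ⟨c, hc, hcy⟩ := SetLike.not_le_iff_exists.1 (hp y.1 y.2)
    refine smul_left_cancel hcy ?_
    exact (congrFun (congrArg Subtype.val (h c hc)) y).trans (smul_zero _).symm

include hp in
/-- An element of `p` regular on all stalks in `G`. -/
theorem exists_regular_stalks [IsNoetherianRing A] [Module.Finite A M]
    (hG : ∀ y z : PrimeSpectrum A, y.asIdeal ≤ z.asIdeal → z ∈ G → y ∈ G) :
    ∃ a ∈ p, ∀ (y : G) (z : LocalizedModule y.1.asIdeal.primeCompl M), a • z = 0 → z = 0 := by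
  classical
  let S : Set (Ideal A) := {q | ∃ hq : q ∈ associatedPrimes A M, (⟨q, hq.isPrime⟩ : PrimeSpectrum A) ∈ G}
  have hS : S.Finite := (associatedPrimes.finite A M).subset fun q hq => hq.1
  obtain ⟨a, hap, ha⟩ : ∃ a ∈ p, ∀ q ∈ S, a ∉ q := by
    by_contra hcon
    push Not at hcon
    obtain ⟨q, hq, hle⟩ := (Ideal.subset_union_prime_finite hS (f := id) ⊥ ⊥
      (fun q hq _ _ => hq.1.isPrime) (I := p)).1 fun c hc => by
        obtain ⟨q, hq, hcq⟩ := hcon c hc
        exact Set.mem_biUnion hq hcq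
    exact hp _ hq.2 hle
  refine ⟨a, hap, fun y z hz => ?_⟩
  obtain ⟨⟨x, s⟩, hx⟩ := IsLocalizedModule.surj y.1.asIdeal.primeCompl
    (LocalizedModule.mkLinearMap y.1.asIdeal.primeCompl M) z
  refine smul_left_cancel (f := (s : A)) s.2 ?_
  rw [smul_zero]
  refine (show (s : A) • z = germs G M x y from hx).trans ((germs_apply_eq_zero_iff y x).2 ?_)
  have h0 : germs G M (a • x) y = 0 := by
    rw [map_smul, Pi.smul_apply, show germs G M x y = (s : A) • z from hx.symm, smul_comm, hz, smul_zero]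
  obtain ⟨u, hu, hux⟩ := (germs_apply_eq_zero_iff y _).1 h0
  by_contra hcon
  push Not at hcon
  have hle : Module.annihilator A (Submodule.span A {u • x}) ≤ y.1.asIdeal := fun r hr => by
    rw [← Submodule.annihilator, Submodule.annihilator_span_singleton, LinearMap.mem_ker,
      LinearMap.toSpanSingleton_apply] at hr
    by_contra hry
    exact hcon (r * u) (fun h => (y.1.isPrime.mem_or_mem h).elim hry hu) (by rw [mul_smul, hr])
  obtain ⟨q, hq, hqy⟩ := Ideal.exists_minimalPrimes_le hle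
  have hq' := associatedPrimes.subset_of_injective (f := (Submodule.span A {u • x}).subtype)
    (Submodule.injective_subtype _)
    (Module.associatedPrimes.minimalPrimes_annihilator_subset_associatedPrimes A _ hq)
  refine ha q ⟨hq', hG _ y.1 hqy y.2⟩ (hq.1.2 ?_)
  rw [← Submodule.annihilator, Submodule.annihilator_span_singleton, LinearMap.mem_ker,
    LinearMap.toSpanSingleton_apply, smul_comm]
  exact hux

include hp in
/-- Divisibility by a regular element is detected off `G`. -/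
theorem exists_div [IsNoetherianRing A] [p.IsPrime] {a : A} (hap : a ∈ p)
    (ha : ∀ (y : G) (z : LocalizedModule y.1.asIdeal.primeCompl M), a • z = 0 → z = 0)
    (v : Sec G M) (h : ∀ c ∈ p, ∃ s : A, s ∉ p ∧ ∃ w : Sec G M, a • w = (s * c) • v) :
    ∃ s : A, s ∉ p ∧ ∃ w : Sec G M, a • w = s • v := by
  classical
  obtain ⟨T, hT⟩ := (IsNoetherian.noetherian p : p.FG)
  choose! s hs w hw using fun (c : A) (hc : c ∈ T) => h c (hT ▸ Submodule.subset_span hc)
  refine ⟨∏ c ∈ T, s c, fun hm => ?_, ?_⟩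
  · obtain ⟨c, hc, hm'⟩ := (Ideal.IsPrime.prod_mem_iff (hp := ‹p.IsPrime›)).1 hm
    exact hs c hc hm'
  set σ := ∏ c ∈ T, s c
  have hdiv : ∀ c ∈ T, a • ((∏ d ∈ T.erase c, s d) • w c) = (σ * c) • v := fun c hc => by
    rw [smul_comm, hw c hc, smul_smul, ← mul_assoc, Finset.prod_erase_mul T s hc]
  have hgen : ∀ y : G, ∃ c ∈ T, c ∉ y.1.asIdeal := fun y => by
    by_contra hcon
    push Not at hcon
    exact hp y.1 y.2 (hT ▸ Submodule.span_le.2 fun c hc => hcon c hc)
  have hsol : ∀ y : G, ∃ z : LocalizedModule y.1.asIdeal.primeCompl M, a • z = σ • v.1 y := fun y => by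
    obtain ⟨c, hc, hcy⟩ := hgen y
    obtain ⟨z, hz⟩ := ((Module.End.isUnit_iff _).1 (IsLocalizedModule.map_units
      (LocalizedModule.mkLinearMap y.1.asIdeal.primeCompl M) (⟨c, hcy⟩ : y.1.asIdeal.primeCompl))).2
        (((∏ d ∈ T.erase c, s d) • w c).1 y)
    refine ⟨z, smul_left_cancel hcy ?_⟩
    rw [smul_comm, show c • z = ((∏ d ∈ T.erase c, s d) • w c).1 y from hz, smul_smul, mul_comm c σ]
    exact congrFun (congrArg Subtype.val (hdiv c hc)) y
  choose z hz using hsol
  refine ⟨⟨z, fun y => ?_⟩, Subtype.ext (funext hz)⟩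
  obtain ⟨c, hc, hcy⟩ := hgen y
  obtain ⟨f, hf, m, hm⟩ := ((∏ d ∈ T.erase c, s d) • w c).2 y
  refine ⟨f * c, fun hh => (y.1.isPrime.mem_or_mem hh).elim hf hcy, m, fun y' hy' => ?_⟩
  rw [← sub_eq_zero]
  refine ha y' _ ?_
  rw [smul_sub, smul_comm a (f * c), hz y', sub_eq_zero, ← hm y' fun h' => hy' (Ideal.mul_mem_right _ _ h'),
    smul_comm a f, mul_smul]
  refine congrArg (f • ·) ?_
  rw [smul_smul, mul_comm c σ]
  exact (congrFun (congrArg Subtype.val (hdiv c hc)) y').symm

end Groth.Agent.H18.Sec
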