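import Groth.Agent.H18.Sec.Coh
import Groth.Agent.H18.Sec.Compl

/-!
# Coherent direct images and the closure
-/

set_option linter.style.haveILetI false

universe u

open CategoryTheory Limits AlgebraicGeometry Opposite TopologicalSpace
open Groth.Agent.Lib.QCoh.Localizing

namespace Groth.Agent.H18.Sec

open H18.ZClos

variable {X : Scheme.{u}} [IsLocallyNoetherian X] {Z : Set X} {F : X.Modules} [F.IsQuasicoherent]

/-- If `j_*(F|_U)` is coherent, the sections outside the complement of `U` are finite. -/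
theorem isCoherentPushCompl_of_resPush (T : _root_.ZClos.Cl Z) (hd : Coh.IsCoh ((_root_.ZClos.resPush T.U).obj F))
    {W : X.Opens} (hW : IsAffineOpen W) :
    ∃ J : Ideal Γ(X, W), (∀ y : PrimeSpectrum Γ(X, W), J ≤ y.asIdeal ↔ hW.fromSpec y ∈ (T.1 : Set X)) ∧
      EGA4.IsCoherentPushCompl Γ(X, W) J Γ(F, W) := by
  classical
  haveI : IsNoetherianRing Γ(X, W) := IsLocallyNoetherian.component_noetherian ⟨W, hW⟩
  let C : Set (PrimeSpectrum Γ(X, W)) := hW.fromSpec.base ⁻¹' (T.1 : Set X)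
  have hC : IsClosed C := T.1.2.preimage hW.fromSpec.continuous
  refine ⟨PrimeSpectrum.vanishingIdeal C, fun y => ?_, ?_⟩
  · show y ∈ PrimeSpectrum.zeroLocus (PrimeSpectrum.vanishingIdeal C : Set Γ(X, W)) ↔ y ∈ C
    rw [PrimeSpectrum.zeroLocus_vanishingIdeal_eq_closure, hC.closure_eq]
  have hG : compl (PrimeSpectrum.vanishingIdeal C) = outside (T.1 : Set X) hW := by
    show (PrimeSpectrum.zeroLocus _)ᶜ = _
    rw [PrimeSpectrum.zeroLocus_vanishingIdeal_eq_closure, hC.closure_eq]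
    rfl
  rw [isCoherentPushCompl_iff, hG]
  have hZT : StableUnderSpecialization (T.1 : Set X) := T.1.2.stableUnderSpecialization
  obtain ⟨e⟩ := exists_sectionsEquiv (F := F) hZT hW
  let T₀ : _root_.ZClos.Cl (T.1 : Set X) := ⟨T.1, subset_rfl⟩
  let ψ : Γ((_root_.ZClos.resPush T₀.U).obj F, W) →ₗ[Γ(X, W)] Γ((_root_.ZClos.H0 (T.1 : Set X)).obj F, W) :=
    Lib.CohBasics.Affine.secₗ (colimit.ι ((_root_.ZClos.diagram (T.1 : Set X)).obj F) T₀) W
  have hψ : Function.Surjective ψ := fun σ => by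
    obtain ⟨T', s, rfl⟩ := exists_rep hW.isCompact σ
    have hT' : T' ≤ T₀ := T'.2
    refine ⟨res F (img_le T₀.U W) (res F (inf_U_anti _ hT' le_rfl) s), ?_⟩
    exact ιsec_mono hT' W s
  haveI : Module.Finite Γ(X, W) Γ((_root_.ZClos.resPush T₀.U).obj F, W) :=
    Lib.CohBasics.Closure.finite_sections hd hW
  haveI := Module.Finite.of_surjective ψ hψ
  exact Module.Finite.equiv e

end Groth.Agent.H18.Sec
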