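import Groth.Agent.Lib.RefHull.HomSh
import Groth.Agent.Lib.RefHull.Colim
import Groth.Agent.Lib.Modules.TensorAffine
import Groth.Agent.Lib.ExtHH.SheafHom

/-!
# The internal Hom of modules is the sheaf of local homomorphisms
-/

set_option linter.style.haveILetI false

universe u

noncomputable section

open CategoryTheory Limits AlgebraicGeometry Opposite TopologicalSpace

namespace Groth.Agent.H18.Sec.HomIso

open Groth.Agent.Lib
open Groth.Agent.Lib.TensorMod Groth.Agent.Lib.TensorMod.Basic Groth.Agent.Lib.TensorMod.Free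
open Groth.Agent.Lib.TensorMod.Dual (rs rf rs_rs rs_self rf_self)
open Groth.Agent.Lib.RefHull.SecHom Groth.Agent.Lib.RefHull.HomSh

variable {X : Scheme.{u}} {F T T' G : X.Modules}

variable (F G) in
/-- Evaluation, on presheaves. -/
def evPre : CohB1.tensorPre F (_root_.RefHull.homSh F G) ⟶ (fgt X).obj G where
  app W := ModuleCat.MonoidalCategory.tensorLift (R := X.sheaf.obj.obj W)
    (M₁ := ((fgt X).obj F).obj W) (M₂ := ((fgt X).obj (_root_.RefHull.homSh F G)).obj W)
    (M₃ := ((fgt X).obj G).obj W)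
    (fun m g => app (U := W.unop) g le_rfl m)
    (fun m m' g => map_add (app (U := W.unop) g le_rfl) m m')
    (fun r m g => (app (U := W.unop) g le_rfl).map_smul r m)
    (fun m g g' => sec_ext (U := W.unop) (M := G) fun y hy => by
      refine (germ_app (U := W.unop) _ le_rfl m y hy).trans (Eq.trans ?_ (map_add _ _ _).symm)
      exact congrArg₂ (· + ·) (germ_app (U := W.unop) g le_rfl m y hy).symm
        (germ_app (U := W.unop) g' le_rfl m y hy).symm)
    (fun r m g => (app_smul_left (U := W.unop) r g le_rfl m).trans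
      (congrArg (fun a : Γ(X, W.unop) => a • app (U := W.unop) g le_rfl m) (rf_self le_rfl r)))
  naturality {W W'} j := ModuleCat.MonoidalCategory.tensor_ext fun m g =>
    app_res (U := W.unop) g le_rfl j.unop.le m

variable (F G) in
/-- Evaluation. -/
def ev : CohB1.tensorMod F (_root_.RefHull.homSh F G) ⟶ G :=
  ((adj X).homEquiv _ G).symm (evPre F G)

lemma pairM_ev {U : X.Opens} (m : Γ(F, U)) (g : Γ(_root_.RefHull.homSh F G, U)) :
    pairM (ev F G) m g = app g le_rfl m := by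
  refine (congrArg (fun k => Whisker.pair (M := (fgt X).obj F) (P := (fgt X).obj (_root_.RefHull.homSh F G))
    (H := (fgt X).obj G) (X := op U) k m g) (Equiv.apply_symm_apply _ _)).trans ?_
  rfl

/-- The partially evaluated stalk map of a pairing. -/
def stalkCurry (φ : CohB1.tensorMod F T ⟶ G) {U : X.Opens} (t : Γ(T, U)) (y : U) :
    _root_.RefHull.StalkHom F G y.1 :=
  (_root_.RefHull.stalkMapₗ φ y.1).comp
    ((DerivedOX.TensorSheaf.tensorStalk y.1 F T).symm.toLinearMap.comp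
      ((TensorProduct.mk _ _ _).flip (T.presheaf.germ U y.1 y.2 t)))

lemma stalkCurry_germ (φ : CohB1.tensorMod F T ⟶ G) {U : X.Opens} (t : Γ(T, U)) (y : U)
    {V W : X.Opens} (hV : W ≤ V) (hU : W ≤ U) (hy : y.1 ∈ W) (m : Γ(F, V)) :
    stalkCurry φ t y (F.presheaf.germ V y.1 (hV hy) m) =
      G.presheaf.germ W y.1 hy (pairM φ (rs F hV m) (rs T hU t)) := by
  refine Eq.trans ?_ (congrArg (G.presheaf.germ W y.1 hy)
    (Modules.TensorSec.app_tens φ (rs F hV m) (rs T hU t)))
  refine Eq.trans ?_ (_root_.RefHull.stalkMapₗ_germ φ y.1 hy _)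
  refine congrArg (_root_.RefHull.stalkMapₗ φ y.1) ((LinearEquiv.symm_apply_eq _).2 ?_)
  refine Eq.trans ?_ (Modules.TensorAffine.tensorStalk_germ_tens hy _ _).symm
  rw [germ_rs, germ_rs]
  rfl

/-- The section of the sheaf Hom defined by a pairing and a section. -/
def curryApp (φ : CohB1.tensorMod F T ⟶ G) (U : X.Opens) (t : Γ(T, U)) :
    Γ(_root_.RefHull.homSh F G, U) :=
  ⟨stalkCurry φ t, fun V i m x => ⟨V, x.2, 𝟙 V, pairM φ (rs F le_rfl m) (rs T i.le t), fun y =>
    stalkCurry_germ φ t ⟨y.1, i.le y.2⟩ le_rfl i.le y.2 m⟩⟩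

lemma curryApp_apply (φ : CohB1.tensorMod F T ⟶ G) {U : X.Opens} (t : Γ(T, U)) (y : U) :
    (curryApp φ U t).1 y = stalkCurry φ t y := rfl

lemma stalkCurry_rs (φ : CohB1.tensorMod F T ⟶ G) {U V : X.Opens} (h : V ≤ U) (t : Γ(T, U)) (y : V) :
    stalkCurry φ (rs T h t) y = stalkCurry φ t ⟨y.1, h y.2⟩ := by
  rw [stalkCurry, germ_rs h y.2 t]
  rfl

lemma stalkCurry_add (φ : CohB1.tensorMod F T ⟶ G) {U : X.Opens} (a b : Γ(T, U)) (y : U) :
    stalkCurry φ (a + b) y = stalkCurry φ a y + stalkCurry φ b y := by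
  simp only [stalkCurry, map_add, LinearMap.comp_add]
  exact LinearMap.comp_add _ _ _

lemma stalkCurry_smul (φ : CohB1.tensorMod F T ⟶ G) {U : X.Opens} (r : Γ(X, U)) (t : Γ(T, U)) (y : U) :
    stalkCurry φ (r • t) y = X.presheaf.germ U y.1 y.2 r • stalkCurry φ t y := by
  simp only [stalkCurry, Mero.germ_smul, map_smul, LinearMap.comp_smul]
  exact LinearMap.comp_smul _ _ _

/-- The morphism into the sheaf Hom defined by a pairing. -/
def curry (φ : CohB1.tensorMod F T ⟶ G) : T ⟶ _root_.RefHull.homSh F G :=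
  ⟨PresheafOfModules.homMk
    { app := fun U => AddCommGrpCat.ofHom (AddMonoidHom.mk' (curryApp φ U.unop) fun a b =>
        Subtype.ext (funext fun y => stalkCurry_add φ a b y))
      naturality := fun {U V} i => by
        ext t
        refine Subtype.ext (funext fun y => ?_)
        exact stalkCurry_rs φ i.unop.le t y }
    (fun U r t => Subtype.ext (funext fun y => stalkCurry_smul φ r t y))⟩

lemma curry_app (φ : CohB1.tensorMod F T ⟶ G) (U : X.Opens) (t : Γ(T, U)) :
    (curry φ).app U t = curryApp φ U t := rfl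

lemma tmap_curry_ev (φ : CohB1.tensorMod F T ⟶ G) : tmap (𝟙 F) (curry φ) ≫ ev F G = φ := by
  refine hom_ext_pairM fun U m t => ?_
  rw [pairM_tmap_comp, pairM_ev]
  refine sec_ext fun y hy => ?_
  rw [germ_app, curry_app]
  refine (stalkCurry_germ φ t ⟨y, hy⟩ le_rfl le_rfl hy _).trans ?_
  rw [rs_self, rs_self]
  rfl

lemma comp_curry (h : T' ⟶ T) (φ : CohB1.tensorMod F T ⟶ G) :
    h ≫ curry φ = curry (tmap (𝟙 F) h ≫ φ) := by
  refine Scheme.Modules.hom_ext _ _ fun U => ?_
  ext t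
  refine Subtype.ext (funext fun y => LinearMap.ext fun v => ?_)
  obtain ⟨V, hV, m, rfl⟩ := TopCat.Presheaf.exists_germ_eq F.presheaf v
  show stalkCurry φ (h.app U t) y _ = stalkCurry (tmap (𝟙 F) h ≫ φ) t y _
  rw [stalkCurry_germ φ _ y (inf_le_left : V ⊓ U ≤ V) inf_le_right (Opens.mem_inf.mpr ⟨hV, y.2⟩) m,
    stalkCurry_germ _ _ y (inf_le_left : V ⊓ U ≤ V) inf_le_right (Opens.mem_inf.mpr ⟨hV, y.2⟩) m, pairM_tmap_comp,
    ← Modules.TensorSec.app_rs h]
  rfl

lemma curry_ev : curry (ev F G) = 𝟙 (_root_.RefHull.homSh F G) := by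
  refine Scheme.Modules.hom_ext _ _ fun U => ?_
  ext g
  refine Subtype.ext (funext fun y => LinearMap.ext fun v => ?_)
  obtain ⟨V, hV, m, rfl⟩ := TopCat.Presheaf.exists_germ_eq F.presheaf v
  show stalkCurry (ev F G) g y _ = g.1 y _
  rw [stalkCurry_germ (ev F G) _ y (inf_le_left : V ⊓ U ≤ V) inf_le_right (Opens.mem_inf.mpr ⟨hV, y.2⟩) m, pairM_ev,
    germ_app]
  refine congrArg (g.1 y) ?_
  exact germ_rs _ _ _

variable [DCoh.HasSheafHom F]

variable (F G) in
/-- The internal Hom is the sheaf of local homomorphisms. -/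
theorem nonempty_iso : Nonempty ((DCoh.sheafHom F).obj G ≅ _root_.RefHull.homSh F G) := by
  let c : CohB1.tensorMod F ((DCoh.sheafHom F).obj G) ⟶ G :=
    (ExtHH.SheafHom.adjEquiv F _ G).symm (𝟙 _)
  refine ⟨⟨curry c, ExtHH.SheafHom.adjEquiv F _ G (ev F G), ?_, ?_⟩⟩
  · rw [← ExtHH.SheafHom.adjEquiv_left, tmap_curry_ev]
    exact Equiv.apply_symm_apply _ _
  · rw [comp_curry, ← curry_ev]
    refine congrArg curry ?_
    apply (ExtHH.SheafHom.adjEquiv F _ G).injective
    rw [ExtHH.SheafHom.adjEquiv_left, Equiv.apply_symm_apply, Category.comp_id]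

end Groth.Agent.H18.Sec.HomIso
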