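import Groth.Agent.H18.Sec.Family

/-!
# The closure on an affine scheme
-/

set_option linter.style.haveILetI false

universe u

open CategoryTheory Limits AlgebraicGeometry Opposite TopologicalSpace

namespace Groth.Agent.H18.Sec

variable (A : Type u) [CommRing A] [IsNoetherianRing A] (M : Type u) [AddCommGroup M] [Module A M]

/-- On `Spec A` the closure of `M~` is coherent iff the sections of `M` outside `Z` are finite. -/
theorem isCoh_H0_tildeOf_iff (Z : Set (PrimeSpectrum A)) (hZ : StableUnderSpecialization Z) :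
    Coh.IsCoh ((_root_.ZClos.H0 (X := Spec (CommRingCat.of A)) Z).obj (EGA4.tildeOf A M)) ↔
      Module.Finite A (Sec Zᶜ M) := by
  let X := Spec (CommRingCat.of A)
  let F : X.Modules := EGA4.tildeOf A M
  haveI : IsNoetherian X := inferInstanceAs (IsNoetherian (Spec (CommRingCat.of A)))
  have hW : IsAffineOpen (⊤ : X.Opens) := isAffineOpen_top X
  haveI : IsNoetherianRing Γ(X, ⊤) := IsLocallyNoetherian.component_noetherian ⟨⊤, hW⟩
  haveI : F.IsQuasicoherent := inferInstanceAs (tilde (ModuleCat.of (CommRingCat.of A) M)).IsQuasicoherent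
  let σ : A ≃+* Γ(X, ⊤) := (Scheme.ΓSpecIso (CommRingCat.of A)).symm.commRingCatIsoToRingEquiv
  let f := tilde.toOpen (R := CommRingCat.of A) (ModuleCat.of (CommRingCat.of A) M) ⊤
  haveI : IsIso f := tilde.isIso_toOpen_top
  have hb : Function.Bijective f.hom := ConcreteCategory.bijective_of_isIso f
  let e₀ : M →+ Γ(F, ⊤) :=
    { toFun := fun m => f.hom m, map_zero' := map_zero f.hom, map_add' := fun a b => map_add f.hom a b }
  let e : M ≃+ Γ(F, ⊤) := AddEquiv.ofBijective e₀ hb
  have he : ∀ (a : A) (m : M), e (a • m) = σ a • e m := fun a m => (map_smul f.hom a m).trans rfl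
  have hfs : ∀ y : PrimeSpectrum Γ(X, ⊤), hW.fromSpec y = PrimeSpectrum.comap σ.toRingHom y := fun y => by
    rw [show hW.fromSpec = X.isoSpec.inv from IsAffineOpen.fromSpec_top, Scheme.isoSpec_Spec_inv]
    rfl
  have hG : ∀ y : PrimeSpectrum Γ(X, ⊤), y ∈ outside Z hW ↔ PrimeSpectrum.comap σ.toRingHom y ∈ Zᶜ := fun y => by
    show hW.fromSpec y ∉ Z ↔ _
    rw [hfs]
    rfl
  constructor
  · intro h
    haveI := finite_of_isCoh_H0 (F := F) hZ h hW
    exact finite_congr σ e he hG
  · intro h
    refine isCoh_H0_of_finite (F := F) hZ fun x => ⟨⊤, hW, trivial, ?_⟩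
    refine finite_congr (G' := Zᶜ) σ.symm e.symm (fun a n => e.injective (by
      rw [AddEquiv.apply_symm_apply, he, AddEquiv.apply_symm_apply, RingEquiv.apply_symm_apply])) fun y => ?_
    have hy : PrimeSpectrum.comap σ.toRingHom (PrimeSpectrum.comap σ.symm.toRingHom y) = y :=
      PrimeSpectrum.ext (by ext a; simp)
    rw [hG, hy]

end Groth.Agent.H18.Sec
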